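import Cfsg.Agent.Bm.A2

/-! Baumann's theorem: rank one groups over `B`. -/

set_option autoImplicit false
set_option linter.unusedSectionVars false

namespace CF.Bm

open Cfsg Subgroup CF.Loc CF.FF CF.GC
open CF.PLocal (maxAb thompson_le le_thompson upT)
open scoped commutatorElement MatrixGroups

universe u
variable {G : Type u} [Group G] [Finite G]
variable {A B E H K L M P Q S T U V W X Y : Subgroup G} {d e g : G}
variable {F : Type} [Field F] {ρ : G → SL(2, F)} {ψ : G → Fin 2 → F}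

omit [Finite G] in
theorem nat_restrict (n : NatOn F V L A ρ ψ) (l : U ≤ V) (m : L ≤ 𝐍(U)) (s : V ≤ U ⊔ 𝐂(L)) (c : 𝐂(L) ≤ 𝐍(U)) :
    NatOn F U L A ρ ψ := by
  refine ⟨m, n.le, n.ρmul, fun v hv w hw => n.ψmul v (l hv) w (l hw), n.ρsurj, fun z => ?_, fun v hv => n.ker v (l hv),
    fun g hg v hv => n.equiv g hg v (l hv), n.up, n.up', fun v hv => n.fix v (l hv),
    fun a ha e => centralizer_anti l (n.infker a ha e)⟩
  obtain ⟨v, hv, rfl⟩ := n.ψsurj z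
  obtain ⟨u, hu, c, hc, rfl⟩ := (mem_sup_of_le_normalizer c).1 (s hv)
  have k := (mul_mem_cancel_left (l hu)).1 hv
  exact ⟨u, hu, by rw [n.ψmul u (l hu) c k, (n.ker c k).2 hc, add_zero]⟩

theorem nat_ker (n : NatOn F V L A ρ ψ) (ea : IsElementaryAbelian 2 V) (s : IsSyl 2 A L) (hg : g ∈ L) (c : ρ g = 1) :
    g ∈ 𝐂(V) := by
  have l := map_subtype_le n.hom.ker
  have k : ⁅V, n.hom.ker.map L.subtype⁆ ≤ 𝐂(L) := by
    rw [commutator_comm]
    exact commutator_le.2 fun _ ⟨y, hy, z⟩ v hv => z ▸ n.comm_mem y.2 hy hv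
  refine (s.inf_of_le_normalizer l (le_normalizer_map_subtype _)).pResidualOf_sup.ge.trans (sup_le ?_ ?_) ⟨⟨g, hg⟩, c, rfl⟩
  · exact le_centralizer_comm.1 (commutator_eq_bot_iff_le_centralizer.1 (commutator_pResidualOf_eq_bot
      ((isElemAb_isPGroup ea).to_le (commutator_le_left_of_le_normalizer (l.trans n.norm)))
      (commutator_eq_bot_iff_le_centralizer.2 (k.trans (centralizer_anti l)))))
  · rintro _ ⟨ha, y, hy, rfl⟩
    exact n.infker _ ha hy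

theorem nat_res [Finite F] (n : NatOn F V L A ρ ψ) (h4 : 4 ≤ Nat.card F) (m : SL(2, F)) : ∃ k ∈ 𝐑[2](L), ρ k = m := by
  have e : 𝐑[2]((⊤ : Subgroup SL(2, F))) = ⊤ := pResidualOf_eq_self_of_perfect (CF.Classical.commutator_SL2_eq_top h4)
  rw [← map_top_of_surjective _ n.hom_surj, ← map_pResidualOf, map_top_of_surjective _ n.hom_surj] at e
  obtain ⟨k, hk, rfl⟩ := e.ge (mem_top m)
  refine ⟨k, ?_, rfl⟩
  have := mem_map_of_mem L.subtype hk
  rwa [pResidualOf_map_subtype, ← MonoidHom.range_eq_map, range_subtype] at this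

theorem nat_four [Finite F] (n : NatOn F V L A ρ ψ) (hA : IsPGroup 2 A) : Nat.card F = 2 ∨ 4 ≤ Nat.card F := by
  obtain ⟨k, hk⟩ := hA.exists_card_eq
  obtain ⟨j, -, e⟩ := (Nat.dvd_prime_pow Nat.prime_two).1 (hk ▸ Dvd.intro _ n.card_A.symm)
  have := Finite.one_lt_card (α := F)
  rw [e] at this ⊢
  match j with
  | 0 => simp at this
  | 1 => exact Or.inl rfl
  | j + 2 => exact Or.inr (Nat.pow_le_pow_right two_pos (show 2 ≤ j + 2 by omega))

theorem pw_cj (h : PW 2 F P S M W ρ ψ) (g : G) :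
    PW 2 F (cj[g] P) (cj[g] S) (cj[g] M) (cj[g] W) (fun x => ρ (g⁻¹ * x * g)) fun x => ψ (g⁻¹ * x * g) :=
  ⟨h.syl.cj g, h.um.cj g, isElemAb_cj g h.ea, by simpa only [cj_inf, cj_centralizer, cj_pCoreOf] using cj_mono g h.le,
    nat_cj h.nat g, fun x hx => mem_cj.trans (h.mem _ (mem_cj.1 hx))⟩

theorem pw_pu [Finite F] (h : PW 2 F P S M W ρ ψ) : PU 2 P S M := by
  have n := h.nat
  refine ⟨h.syl, h.um, h.ne, ?_, ?_⟩
  · rw [← h.cent]
    refine commutator_le.2 fun a ha b hb => ⟨commutator_le_left_of_le_normalizer le_normalizer (commutator_mem_commutator ha hb), ?_⟩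
    obtain ⟨s, hs⟩ := n.up a ha
    obtain ⟨t, ht⟩ := n.up b hb
    refine n.infker _ (commutator_le_left_of_le_normalizer le_normalizer (commutator_mem_commutator ha hb)) ?_
    rw [n.sec.ρcomm (n.le ha) (n.le hb), hs, ht, commutatorElement_eq_one_iff_mul_comm, PLocal.upT_mul, PLocal.upT_mul, add_comm]
  by_cases h4 : 4 ≤ Nat.card F
  · refine Or.inl fun b hb => ?_
    obtain ⟨k, hk, e⟩ := nat_res n h4 (ρ b)
    have k1 := pResidualOf_le 2 P hk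
    have m := mul_mem (inv_mem k1) (n.le hb)
    have s := h.syl.inf_of_le_normalizer (inf_le_left : P ⊓ 𝐂(W) ≤ P)
      (le_normalizer_inf le_normalizer (le_normalizer_centralizer n.norm))
    rw [← mul_inv_cancel_left k b]
    refine mul_mem (mem_sup_left hk) (s.pResidualOf_sup.ge.trans (sup_le_sup (pResidualOf_mono inf_le_left)
      ((inf_le_inf_left _ inf_le_right).trans h.cent.le)) ⟨m, nat_ker n h.ea h.syl m ?_⟩)
    rw [n.ρmul _ (inv_mem k1) _ (n.le hb), n.ρinv k1, e, inv_mul_cancel]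
  · rw [← n.sec.card_F h.syl h.um (comm_le_of_cent' h.core_cent)]
    exact Or.inr ((nat_four n h.syl.isPGroup).resolve_right h4)

namespace Lb
variable (h : Lb B L)
include h

protected theorem cj (g : G) : Lb (cj[g] B) (cj[g] L) := by
  obtain ⟨F, _, k, M, ρ, ψ, p⟩ := h.pw
  obtain ⟨d, hd, m, l⟩ := h.dd
  refine ⟨h.th, h.ch.cj g, ⟨F, _, k, _, _, _, by simpa only [cj_omegaOneCenter, cj_pCoreOf] using pw_cj p g⟩, fun c => h.nj ?_,
    ⟨_, hd.cj g, conj_mem_cj g m, cj_Sy g d ▸ cj_mono g l⟩, fun d Q T hd m l n pT lT nT => ?_⟩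
  · rwa [← cj_thompson, ← cj_pCoreOf, cj_le_cj_iff] at c
  · have := h.st _ _ (cj[g⁻¹] T) (hd.cj g⁻¹) (conj_mem_cj g⁻¹ m) (cj_Sy g⁻¹ d ▸ cj_mono _ l)
      (by simpa only [cj_inv_cj, cj_normalizer] using cj_mono g⁻¹ n) (isPGroup_cj _ pT)
      (by simpa only [cj_inv_cj] using cj_mono g⁻¹ lT) (by simpa only [cj_normalizer] using cj_mono g⁻¹ nT)
    rw [← this, cj_baumann, cj_cj_inv]

theorem syl : IsSyl 2 B L := let ⟨_, _, _, _, _, _, p⟩ := h.pw; p.syl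
theorem le : B ≤ L := h.syl.le
theorem pg : IsPGroup 2 B := h.syl.isPGroup
theorem core_le : 𝐎[2](L) ≤ B := h.syl.pCoreOf_le
theorem sup : 𝐑[2](L) ⊔ B = L := h.syl.pResidualOf_sup
theorem omega_le : 𝛀[2](B) ≤ 𝐔[2](L) := h.ch.omegaOneCenter_le h.syl
theorem norm_U : L ≤ 𝐍(𝐔[2](L)) := norm_omega 2 L
theorem U_le_B : 𝐔[2](L) ≤ B := (U_le_core 2 L).trans h.core_le
theorem not_pc : ¬ PClosed 2 L := let ⟨_, _, _, _, _, _, p⟩ := h.pw; nat_not_pc p.nat h.pg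

theorem bau : 𝐁[2](B) = B :=
  let ⟨d, hd, m, l⟩ := h.dd
  h.st d _ B hd (U_le_core 2 L (h.omega_le (hd.mem_omega m l))) (h.core_le.trans l) (le_normalizer_pCoreOf 2 L) h.pg le_rfl
    (h.le.trans (le_normalizer_pCoreOf 2 L))

theorem omegaJ : 𝛀[2](𝐉[2](B)) = 𝛀[2](B) :=
  le_antisymm (le_omegaOneCenter (isElemAb_omegaOneCenter _ _) ((omegaOneCenter_le _ _).trans (thompson_le 2 B))
    (le_centralizer_comm.1 (h.bau.ge.trans inf_le_right))) (le_omegaJ (isElemAb_omegaOneCenter _ _) (omegaOneCenter_le _ _)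
    ((omegaOneCenter_le_centralizer _ _).trans (centralizer_anti (thompson_le 2 B))))

theorem centric' (hd : Dd d) (m : d ∈ B) (l : B ≤ Sy d) (hX : X ≤ B) (z : 𝛀[2](B) ≤ X) (n : L ≤ 𝐍(X)) : Sy d ⊓ 𝐂(X) ≤ B := by
  have k := le_inf l (h.le.trans n)
  have e := h.st d X _ hd (z (hd.mem_omega m l)) (hX.trans l) n ((Sy_pg d).to_le inf_le_left) k inf_le_right
  rw [← e]
  refine le_inf (inf_le_inf_left _ (centralizer_le_normalizer _)) (inf_le_right.trans (centralizer_anti (H := 𝛀[2](𝐉[2](_))) ?_))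
  rwa [← PLocal.thompson_eq_of_le ((thompson_le_baumann 2 _).trans e.le) k, h.omegaJ]

theorem mem (hd : Dd d) (l : B ≤ Sy d) : d ∈ 𝛀[2](B) :=
  let ⟨_, he, m, l'⟩ := h.dd
  hd.mem_omega (h.centric' he m l' h.core_le (h.omega_le.trans (U_le_core 2 L)) (le_normalizer_pCoreOf 2 L)
    ⟨he.mem_of_comm hd.sq (comm_of_mem (l m)).symm, mem_cent (h.core_le.trans l)⟩) l

theorem memB (hd : Dd d) (l : B ≤ Sy d) : d ∈ B := omegaOneCenter_le _ _ (h.mem hd l)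
theorem memU (hd : Dd d) (l : B ≤ Sy d) : d ∈ 𝐔[2](L) := h.omega_le (h.mem hd l)

theorem centric (hd : Dd d) (l : B ≤ Sy d) (hX : X ≤ B) (z : 𝛀[2](B) ≤ X) (n : L ≤ 𝐍(X)) : Sy d ⊓ 𝐂(X) ≤ B :=
  h.centric' hd (h.memB hd l) l hX z n

theorem Um_le : Um L ≤ 𝐔[2](L) := commutator_le_left_of_le_normalizer ((pResidualOf_le 2 L).trans h.norm_U)
theorem Um_le_B : Um L ≤ B := h.Um_le.trans h.U_le_B
theorem Um_le_core : Um L ≤ 𝐎[2](L) := h.Um_le.trans (U_le_core 2 L)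
theorem ea_Um : IsElementaryAbelian 2 (Um L) := isElemAb_of_le (isElemAb_omegaOneCenter _ _) h.Um_le
theorem norm_Um : L ≤ 𝐍(Um L) := le_normalizer_commutator h.norm_U (le_normalizer_pResidualOf 2 L)
theorem Um_le_res : Um L ≤ 𝐑[2](L) :=
  commutator_le_right_of_le_normalizer ((h.U_le_B.trans h.le).trans (le_normalizer_pResidualOf 2 L))

theorem not_Um_le : ¬ Um L ≤ 𝐂(L) := fun c =>
  let ⟨_, _, _, _, _, _, p⟩ := h.pw; p.nat.sec.not_res_le h.syl (le_inf h.Um_le c)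

theorem U_le : 𝐔[2](L) ≤ Um L ⊔ (𝐔[2](L) ⊓ 𝐂(L)) :=
  let ⟨_, _, _, _, _, _, p⟩ := h.pw
  ((p.nat.sec.irred (le_normalizer_sup h.norm_Um p.nat.sec.norm₀) le_sup_right (sup_le h.Um_le inf_le_left)).resolve_left
    fun e => h.not_Um_le (le_sup_left.trans (e.le.trans inf_le_right))).ge

theorem comm_Um : ⁅Um L, 𝐑[2](L)⁆ = Um L :=
  have l := pResidualOf_le 2 L
  have k := commutator_le_left_of_le_normalizer (l.trans h.norm_Um)
  le_antisymm k ((commutator_mono h.U_le le_rfl).trans (commutator_sup_left_le (le_nV (U_ab 2 L) h.Um_le (k.trans h.Um_le))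
    (le_nV (U_ab 2 L) inf_le_left (k.trans h.Um_le)) le_rfl (comm_le_of_cent (inf_le_right.trans (centralizer_anti l)))))

theorem cent_U : B ⊓ 𝐂(𝐔[2](L)) = 𝐎[2](L) := let ⟨_, _, _, _, _, _, p⟩ := h.pw; p.cent

theorem res_le (n : L ≤ 𝐍(X)) (l : W ≤ B) (c : ¬ W ≤ 𝐎[2](L)) (l' : W ≤ X) : 𝐑[2](L) ≤ X :=
  let ⟨_, _, _, _, _, _, p⟩ := h.pw
  by_contra fun k => c ((le_inf l l').trans (inf_le_core h.syl p.um n k))

theorem not_res_le : ¬ 𝐑[2](L) ≤ 𝐂(Um L) := fun c => h.not_Um_le (by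
  rw [← h.comm_Um]; exact comm_le_of_cent' c)

theorem core_cent : 𝐎[2](L) ≤ 𝐂(Um L) := (core_cent_U 2 L).trans (centralizer_anti h.Um_le)

theorem cent_Um : B ⊓ 𝐂(Um L) = 𝐎[2](L) :=
  le_antisymm (by_contra fun c => h.not_res_le (h.res_le (le_normalizer_centralizer h.norm_Um) inf_le_left c inf_le_right))
    (le_inf h.core_le h.core_cent)

theorem data : ∃ (F : Type) (_ : Field F) (_ : Fintype F) (M : Subgroup G) (ρ : G → SL(2, F))
    (ψ : G → Fin 2 → F), PW 2 F L B M 𝐔[2](L) ρ ψ ∧ NatOn F (Um L) L B ρ ψ ∧ (∀ g ∈ L, ρ g = 1 → g ∈ 𝐂(𝐔[2](L))) ∧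
    M ≤ 𝐍(B) ∧ PU 2 L B M := by
  obtain ⟨F, _, k, M, ρ, ψ, p⟩ := h.pw
  obtain ⟨d, hd, -, l⟩ := h.dd
  refine ⟨F, _, k, M, ρ, ψ, p, nat_restrict p.nat h.Um_le h.norm_Um (h.U_le.trans (sup_le_sup_left inf_le_right _))
    (centralizer_le_normalizer_of_le (h.Um_le_B.trans h.le)), fun g hg => nat_ker p.nat p.ea h.syl hg, fun g hg => ?_, pw_pu p⟩
  have gL := p.um.lt.le hg
  refine mem_normalizer_of_cj_le ((le_inf (hd.le' (isPGroup_cj g h.pg) ?_) (cj_le_of_mem gL h.le)).trans (hd.inf_eq h.syl l).le)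
  rw [p.nat.mem_cent_cj gL (h.memU hd l), ← p.nat.ρinv gL, SL2_smul_apply, (p.mem _ (inv_mem gL)).1 (inv_mem hg),
    (p.nat.fix d (h.memU hd l)).1 (mem_cent l), zero_mul, mul_zero, add_zero]

theorem max_sup (hE : E ∈ maxAb 2 B) (c : ¬ E ≤ 𝐎[2](L)) : E ⊔ 𝐎[2](L) = B ∧ (E ⊓ 𝐎[2](L)) ⊔ 𝐔[2](L) ∈ maxAb 2 B := by
  obtain ⟨F, _, _, M, ρ, ψ, p, -, -, -, u⟩ := h.data
  have e := (u.nat (U_ab 2 L) (isElemAb_isPGroup p.ea) h.norm_U p.core_cent p.nat.not_le_cent hE.1 c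
    ((Nat.mul_le_mul_right _ (card_le_card_of_le (inf_le_inf_left _ p.core_cent))).trans (maxAb_off hE h.U_le_B p.ea))).1
  exact ⟨e, p.repl hE e⟩

theorem exists_not_le : ∃ E ∈ maxAb 2 B, ¬ E ≤ 𝐎[2](L) := by
  simpa only [PLocal.thompson_le_iff, not_forall, exists_prop] using h.nj

theorem exists_max : ∃ E ∈ maxAb 2 B, E ⊔ 𝐎[2](L) = B :=
  let ⟨E, hE, c⟩ := h.exists_not_le; ⟨E, hE, (h.max_sup hE c).1⟩

theorem U_le_J : 𝐔[2](L) ≤ 𝐉[2](B) :=
  let ⟨_, hE, c⟩ := h.exists_not_le; le_sup_right.trans (le_thompson (h.max_sup hE c).2)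

theorem gy (hd : Dd d) (l : B ≤ Sy d) : GY d 𝐎[2](L) :=
  have z : 𝐔[2](L) ≤ 𝐙[𝐎[2](L)] := le_inf (U_le_core 2 L) (omegaOneCenter_le_centralizer _ _)
  ⟨h.th, hd, U_le_core 2 L (h.memU hd l), h.core_le.trans l, (le_inf (h.centric hd l (inf_le_left.trans h.core_le)
    (h.omega_le.trans z) (norm_V 2 L)) (inf_le_right.trans (centralizer_anti z))).trans h.cent_U.le⟩

theorem not_cent (hd : Dd d) (l : B ≤ Sy d) : d ∉ 𝐂(𝐑[2](L)) := fun c =>
  h.not_pc (hd.pc.of_le (h.sup.ge.trans (sup_le (le_cz_iff.2 c) (l.trans (Sy_le d)))))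

end Lb

end CF.Bm
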