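import Cfsg.Agent.Bm.A

/-! Baumann's theorem: elementary facts on the almost simple situation. -/

set_option autoImplicit false
set_option linter.unusedSectionVars false

namespace CF.Bm

open Cfsg Subgroup CF.Loc CF.FF CF.GC

universe u
variable {G : Type u} [Group G] {K P : Subgroup G} {t x : G}

theorem Co.cen' (h : Co K t) (k : K ≤ Yd t) (c : ∀ U A P P', Pa t U A P P' → x ∈ 𝐂(P)) : x = 1 :=
  mem_bot.1 (h.cen.le (centralizer_anti k (le_cz_iff.1 (sSup_le fun _ ⟨U, A, P, P', m, e⟩ =>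
    e ▸ (pResidualOf_le 2 P).trans (le_cz_iff.2 (c U A P P' m))))))

theorem Co.sq_mem (h : Co K t) (x : G) : x * x ∈ K := by
  rcases h.gen x with c | c
  · exact mul_mem c c
  · have : x * x = x * t * (t * (x * t) * t⁻¹) := by
      rw [mul_assoc x t, ← mul_assoc t, ← mul_assoc t t, h.dd.sq]; group
    exact this ▸ mul_mem c (h.nrm.conj_mem _ c t)

theorem Co.res_le (h : Co K t) : 𝐑[2](P) ≤ K :=
  pResidualOf_le_of_pow_mem fun x _ => ⟨1, by rw [pow_one, sq]; exact h.sq_mem x⟩

theorem Co.eq_top (h : Co K t) (m : t ∈ K) : K = ⊤ :=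
  eq_top_iff.2 fun g _ => (h.gen g).elim id fun c => (mul_mem_cancel_right m).1 c

end CF.Bm
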