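import Cfsg.Agent.Bm.L1
import Cfsg.Agent.Bm.F2

/-! Baumann's theorem: two pairs of natural modules normalizing each other. -/

set_option autoImplicit false
set_option linter.unusedSectionVars false

namespace CF.Bm

open Cfsg Subgroup CF.Loc CF.FF CF.GC
open CF.PLocal (maxAb thompson_le le_thompson upT)
open scoped commutatorElement MatrixGroups

universe u
variable {G : Type u} [Group G] [Finite G]
variable {A A' A₁ B E H K L L' M P P' P₁ P₁' Q S T U U' U₁ V W X Y : Subgroup G} {a a₁ d e f g r t u u₁ v w x z z₁ : G}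
variable {F F' : Type} [Field F] [Field F'] {ρ : G → SL(2, F)} {ψ : G → Fin 2 → F} {ρ' : G → SL(2, F')} {ψ' : G → Fin 2 → F'}

namespace Lx

theorem idx (k : Hb F U A P ρ ψ) (l : E ≤ A ⊔ (U ⊔ 𝐂(P))) : 𝐂(U).relIndex E ≤ Nat.card F := by
  have c3 : 𝐂(U).relIndex E ≤ 𝐂(U).relIndex A :=
    (relIndex_le_of_le_right (l.trans (sup_le_sup_left (sup_le k.ab (centralizer_anti k.le)) _)) FiniteIndex.index_ne_zero).trans (by
      rw [sup_comm, relIndex_sup_of_le_normalizer (le_normalizer_centralizer (k.nat.le.trans k.nat.norm))])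
  have c5 := rel_card 𝐂(U) A
  rw [inf_comm, k.nat.card_A] at c5
  exact c3.trans (Nat.eq_of_mul_eq_mul_right Nat.card_pos c5).le

/-- elements of `A U C(P)` act on `U` as elements of `A` -/
theorem act (h : HB U A P) (hx : x ∈ A ⊔ (U ⊔ 𝐂(P))) : ∃ a ∈ A, a⁻¹ * x ∈ 𝐂(U) ∧ ∀ v ∈ U, ⁅x, v⁆ = ⁅a, v⁆ :=
  let ⟨a, ha, e, k⟩ := exists_act (h.le'.trans h.norm) (sup_le_sup_left h.sup_le_cent _ hx)
  ⟨a, ha, e, fun v hv => by rw [commutatorElement_def, k v hv, commutatorElement_def]⟩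

theorem fix (h : HB U A P) (hx : x ∈ A ⊔ (U ⊔ 𝐂(P))) (x0 : x ∉ 𝐂(U)) (hv : v ∈ U) (c : ⁅x, v⁆ ∈ 𝐂(P)) : v ∈ 𝐂(A) := by
  obtain ⟨a, ha, e, k⟩ := act h hx
  exact h.mem_cent ha (fun m => x0 ((mul_mem_cancel_left (inv_mem m)).1 e)) hv (k v hv ▸ c)

theorem tv (h : HB U A P) (hx : x ∈ A ⊔ (U ⊔ 𝐂(P))) (x0 : x ∉ 𝐂(U)) (hr : r ∈ U ⊓ 𝐂(A)) :
    ∃ v ∈ U, r⁻¹ * ⁅x, v⁆ ∈ 𝐂(P) := by
  obtain ⟨a, ha, e, k⟩ := act h hx
  have a0 : a ∉ 𝐂(U) := fun m => x0 ((mul_mem_cancel_left (inv_mem m)).1 e)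
  obtain ⟨F, _, _, ρ, ψ, h⟩ := h
  obtain ⟨t, et⟩ := h.nat.up a ha
  have t0 : t ≠ 0 := fun z => a0 (h.nat.infker a ha (by rw [et, z, PLocal.upT_zero]))
  obtain ⟨v, hv, ev⟩ := h.nat.ψsurj ![0, ψ r 0 / t]
  refine ⟨v, hv, ?_⟩
  rw [k v hv, ← h.nat.ψ_eq_iff hr.1 (cm_mem (h.nat.norm (h.nat.le ha)) hv), h.nat.ψcomm_up (h.nat.le ha) et hv, ev]
  ext i; fin_cases i
  · simp [mul_div_cancel₀ _ t0]
  · exact (h.nat.fix r hr.1).1 hr.2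

theorem lp0 (pY : IsPGroup 2 Y) (h : PY Y U A P P') (h₁ : PY Y U₁ A₁ P₁ P₁') (n : U₁ ≤ 𝐍(U)) (n' : U ≤ 𝐍(U₁))
    (c : ¬ U₁ ≤ 𝐂(U)) : U₁ ≤ A ⊔ (U ⊔ 𝐂(P)) := fun w hw => by_contra fun w0 => by
  have l : U₁ ≤ Y ⊓ 𝐍(U) := le_inf h₁.l.lU n
  have l' : U ≤ Y ⊓ 𝐍(U₁) := le_inf h.l.lU n'
  have k1 : U₁ ⊓ (A ⊔ (U ⊔ 𝐂(P))) ≤ 𝐂(U) := fun x hx => by_contra fun x0 => w0 (h.lin pY (l hw) (.inr fun r hr => by
    obtain ⟨v, hv, e⟩ := tv h.l.hb hx.2 x0 (h.inf_eq.ge hr)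
    have m := cm_mem (n hx.1) hv
    rw [show r = ⁅x, v⁆ * (r⁻¹ * ⁅x, v⁆)⁻¹ by group,
      cm_right h.l.hb.ab (n hw) m (inv_mem (mul_mem (inv_mem hr.1) m)),
      cm_one (h₁.l.hb.ab (cm_mem' hx.1 (n' hv)) w hw), one_mul]
    exact cm_mem (normalizer_le_normalizer_centralizer _ (h.l.nor (l hw)).1) (inv_mem e)))
  have k2 : Nat.card U₁ ≤ 2 * Nat.card ↥(U₁ ⊓ 𝐂(U)) :=
    (h.card_le pY h₁.l.hb.ea l).trans (Nat.mul_le_mul_left _ (card_le_card_of_le (le_inf inf_le_left k1)))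
  have k3 : U ≤ A₁ ⊔ (U₁ ⊔ 𝐂(P₁)) := fun u hu => by_contra fun u0 => by
    have c3 := (h₁.fld pY (l' hu) (sq_of_ea h.l.hb.ea hu) u0).1
    have c4 : Nat.card ↥(U₁ ⊓ 𝐂(U)) ≤ Nat.card ↥(𝐂(zpowers u) ⊓ U₁) :=
      card_le_card_of_le (le_inf (inf_le_right.trans (centralizer_anti (zpowers_le.2 hu))) inf_le_left)
    have c5 := rel_card 𝐂(zpowers u) U₁
    have p' : 0 < Nat.card ↥(𝐂(zpowers u) ⊓ U₁) := Nat.card_pos
    nlinarith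
  obtain ⟨u, hu, u0⟩ := SetLike.not_le_iff_exists.1 (mt le_centralizer_comm.1 c)
  have k4 : Nat.card ↥(U₁ ⊓ 𝐂(U)) ≤ Nat.card ↥(U₁ ⊓ 𝐂(A₁)) := card_le_card_of_le fun x hx =>
    ⟨hx.1, fix h₁.l.hb (k3 hu) u0 hx.1 (by rw [cm_one (hx.2 u hu)]; exact one_mem _)⟩
  obtain ⟨F, _, _, ρ, ψ, k⟩ := h₁.l.hb
  have k5 := k.nat.card_V
  have k6 := (relIndex_le_of_le_left (centralizer_anti (zpowers_le.2 hw)) FiniteIndex.index_ne_zero).trans (idx k k3)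
  have k7 := (h.fld pY (l hw) (sq_of_ea k.ea hw) w0).1
  have p' : 0 < Nat.card ↥(U₁ ⊓ 𝐂(A₁)) := Nat.card_pos
  nlinarith

theorem lp2 (y : GY d Y) (h : PY Y U A P P') (h₁ : PY Y U₁ A₁ P₁ P₁') (n : U₁ ≤ 𝐍(U)) (n' : U ≤ 𝐍(U₁))
    (c : ¬ U₁ ≤ 𝐂(U)) : U₁ = A :=
  ((y.f2b h.r h₁.l ((h.l.hb.inv' h₁.l.hb.ea (lp0 y.pg h h₁ n n' c)).resolve_left c)).resolve_right fun k =>
    c (k.2.trans (centralizer_anti h.r.hb.le'))).symm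

theorem kl0 (y : GY d Y) (h : PY Y U A P P') (h₁ : HF Y U₁ A₁ P₁) (c : U₁ ≤ 𝐂(U ⊔ A)) : U ≤ 𝐂(P₁) ∧ U₁ ≤ 𝐂(P) :=
  (y.f2b h.l h₁ (c.trans (centralizer_anti le_sup_left))).resolve_left fun e =>
    h.r.hb.nc (e.le.trans (c.trans (centralizer_anti le_sup_right)))

theorem kl1 (y : GY d Y) (h : HF Y U A P) (h₁ : HF Y U₁ A₁ P₁) (c : U ≤ 𝐂(P₁)) (c' : A ≤ 𝐂(P₁)) (c₁ : U₁ ≤ 𝐂(P))
    (c₁' : A₁ ≤ 𝐂(P)) : P₁ ≤ 𝐂(P) := by
  have a : U ⊔ U₁ ≤ 𝐂(U ⊔ U₁) := by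
    rw [centralizer_sup]
    exact sup_le (le_inf h.hb.ab (c.trans (centralizer_anti h₁.hb.le))) (le_inf (c₁.trans (centralizer_anti h.hb.le)) h₁.hb.ab)
  have l := sup_le h.lU h₁.lU
  have ce := y.centric l a
  obtain ⟨k, n⟩ := h.hb.norm_of_le (le_sup_left.trans (le_inf l a))
    ((inf_le_inf_left _ (centralizer_anti le_sup_left)).trans h.cen)
  obtain ⟨k₁, n₁⟩ := h₁.hb.norm_of_le (le_sup_right.trans (le_inf l a))
    ((inf_le_inf_left _ (centralizer_anti le_sup_right)).trans h₁.cen)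
  generalize hX : Y ⊓ 𝐂(U ⊔ U₁) = X at ce k n k₁ n₁
  have pX : IsPGroup 2 X := hX ▸ y.pg.to_le inf_le_left
  have t : ⁅⁅P, P₁⁆, X⁆ ≤ ⊥ := three_subgroups (le_normalizer_of_normal) (le_normalizer_of_normal) (le_normalizer_of_normal)
    ((commutator_mono (commutator_comm P₁ X ▸ k₁) le_rfl).trans (comm_le_of_cent c₁))
    ((commutator_mono k le_rfl).trans (comm_le_of_cent c))
  have t' : ⁅P, P₁⁆ ≤ 𝐂(X) := le_centralizer_comm.1 (commutator_eq_bot_iff_le_centralizer'.1 (le_bot_iff.1 t))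
  have m : P₁ ≤ 𝐍(P ⊔ 𝐂(X)) := le_normalizer_of_commutator_le le_rfl (commutator_sup_left_le
    (le_sup_left.trans le_normalizer) (le_sup_right.trans le_normalizer) (t'.trans le_sup_right)
    ((commutator_le_left_of_le_normalizer (le_normalizer_centralizer n₁)).trans le_sup_right))
  have m' := m.trans (normalizer_le_normalizer_pResidualOf 2 _)
  rw [pResidualOf_sup_eq (pX.to_le ce) (le_normalizer_of_commutator_le le_rfl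
    ((commutator_comm _ _).le.trans ((commutator_mono ce le_rfl).trans (k.trans h.hb.le))))] at m'
  rw [← h.res_sup, centralizer_sup]
  exact le_inf (h₁.ncl.ge.trans (ncl_le_centralizer (c₁'.trans (centralizer_anti (pResidualOf_le 2 P))) m'))
    (le_centralizer_comm.1 c')

theorem conj_fix (he : e ∈ E) (hu : u ∈ 𝐂(E)) : e * u * e⁻¹ = u := by rw [hu e he, mul_inv_cancel_right]

theorem swap (pY : IsPGroup 2 Y) (h : PY Y U A P P') (b : Nat.card U ≠ 4) (hE : E ∈ maxAb 2 T) (TY : T ≤ Y) (l : U ≤ T)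
    (k : ∀ x ∈ E, x ∈ 𝐍(U) ∨ (cj[x] U = A ∧ cj[x] A = U)) : E ≤ 𝐍(U) := fun e he => by_contra fun e0 => by
  obtain ⟨e1, e2⟩ := (k e he).resolve_left e0
  have ab := isElemAb_le_centralizer hE.2.1
  have l2 : E ⊓ 𝐍(U) ≤ Y ⊓ 𝐍(U) := inf_le_inf_right _ (hE.1.trans TY)
  have c1 : Nat.card E ≤ 2 * Nat.card ↥(E ⊓ 𝐍(U)) := two_mul' fun x hx z hz x0 z0 => by
    rw [← cj_eq_self_iff, cj_mul, ((k z hz).resolve_left z0).1, ((k x hx).resolve_left x0).2]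
  have c2 : E ⊓ 𝐍(U) ⊓ (A ⊔ (U ⊔ 𝐂(P))) ≤ 𝐂(U) :=
    (h.l.hb.inv' (isElemAb_of_le hE.2.1 (inf_le_left.trans inf_le_left)) inf_le_right).elim id fun c x hx => by
      rw [← e2, ← cj_centralizer, ← conj_fix he (ab hx.1.1)]
      exact conj_mem_cj e (c hx)
  have c3 : U ⊓ 𝐂(E) ≤ U ⊓ A := fun u hu => ⟨hu.1, by
    rw [← e1, ← conj_fix he hu.2]; exact conj_mem_cj e hu.1⟩
  have c4 : Nat.card U ≤ 2 * Nat.card ↥(U ⊓ A) := by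
    by_cases c : U ⊓ A ≤ 𝐂(E)
    · refine (best hE l h.l.hb.ea (inf_le_left.trans inf_le_left) c2 ?_).trans (Nat.mul_le_mul_left _ (card_le_card_of_le c3))
      rwa [inf_eq_left.2 fun x hx => h.lin pY (l2 hx) (.inr fun r hr => by rw [cm_one (c hr x hx.1)]; exact one_mem _)]
    · have := best hE l h.l.hb.ea (inf_le_left.trans inf_le_left) c2 (m := 4) (by
        have := h.card_le pY (isElemAb_of_le hE.2.1 inf_le_left) l2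
        omega)
      have := two_mul_lt (lt_of_le_of_ne c3 fun e => c (e.ge.trans inf_le_right))
      omega
  rw [← h.inf_eq] at c4
  obtain ⟨F, _, _, ρ, ψ, k⟩ := h.l.hb
  have := k.four b
  have p : 0 < Nat.card ↥(U ⊓ 𝐂(A)) := Nat.card_pos
  rw [k.nat.card_V] at c4
  nlinarith

theorem move0 (h : HB U A P) (b : Nat.card U ≠ 4) (hE : E ∈ maxAb 2 T) (l : U ≤ T) (hB : B ≤ E) (c : B ≤ 𝐂(U))
    (i : Nat.card E ≤ 4 * Nat.card B) (m : U ⊓ 𝐂(E) ≤ 𝐂(P)) : False := by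
  have c1 := (best hE l h.ea hB c i).trans (Nat.mul_le_mul_left _ (card_le_card_of_le (le_inf inf_le_left m)))
  obtain ⟨F, _, _, ρ, ψ, k⟩ := h
  have := k.four b
  have p : 0 < Nat.card ↥(U ⊓ 𝐂(P)) := Nat.card_pos
  rw [k.nat.card_V'] at c1
  nlinarith [Nat.le_of_mul_le_mul_right c1 p]

theorem move (pY : IsPGroup 2 Y) (h : PY Y U A P P') (b : Nat.card U ≠ 4) (hE : E ∈ maxAb 2 T) (TY : T ≤ Y) (l : U ⊔ A ≤ T)
    (k : ∀ x ∈ E, x ∈ 𝐍(U) ∨ (cj[x] U = A ∧ cj[x] A = U) ∨ cj[x] P ⊔ cj[x] P' ≤ 𝐂(P ⊔ P'))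
    (q : ∀ x ∈ E, ∀ r ∈ U ⊓ A, ⁅x, r⁆ ∈ 𝐂(E)) (he : e ∈ E) : ¬ cj[e] P ⊔ cj[e] P' ≤ 𝐂(P ⊔ P') := fun c => by
  have mv : ∀ {x}, cj[x] P ⊔ cj[x] P' ≤ 𝐂(P ⊔ P') → ∀ {s}, s ∈ P → x * s * x⁻¹ ∈ 𝐂(P ⊔ P') := fun c _ hs =>
    c (mem_sup_left (conj_mem_cj _ hs))
  have k2 : ∀ x ∈ E, x ∉ 𝐍(U ⊔ A) → cj[x] P ⊔ cj[x] P' ≤ 𝐂(P ⊔ P') := fun x hx x0 =>
    ((k x hx).resolve_left fun m => x0 (by
      rw [← cj_eq_self_iff, cj_sup, cj_eq_self m, cj_eq_self (h.l.nor ⟨TY (hE.1 hx), m⟩).2])).resolve_left fun m =>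
        x0 (by rw [← cj_eq_self_iff, cj_sup, m.1, m.2, sup_comm])
  obtain ⟨r, hr, r0⟩ := SetLike.not_le_iff_exists.1 h.nR
  have rP := h.l.hb.le hr.1
  have c1 : Nat.card E ≤ 2 * Nat.card ↥(E ⊓ 𝐍(U ⊔ A)) := two_mul' fun x hx z hz x0 z0 => by_contra fun c0 => by
    refine r0 (centralizer_anti le_sup_left ((𝐂(P ⊔ P')).inv_mem_iff.1 ?_))
    rw [show r⁻¹ = (z * r * z⁻¹)⁻¹ * ⁅z, r⁆ by rw [commutatorElement_def]; group, ← conj_fix hx (q z hz r hr),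
      show x * ⁅z, r⁆ * x⁻¹ = x * z * r * (x * z)⁻¹ * (x * r * x⁻¹)⁻¹ by rw [commutatorElement_def]; group]
    exact mul_mem (inv_mem (mv (k2 z hz z0) rP)) (mul_mem (mv (k2 _ (mul_mem hx hz) c0) rP) (inv_mem (mv (k2 x hx x0) rP)))
  have k3 : ∀ x ∈ E ⊓ 𝐍(U ⊔ A), x ∉ 𝐍(U) → cj[x] U = A ∧ cj[x] A = U := fun x hx x0 =>
    ((k x hx.1).resolve_left x0).resolve_right fun m => h.l.hb.nc (le_sup_right.trans ((cj_eq_self hx.2).ge.trans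
      ((cj_mono x (sup_le h.l.hb.le h.l.hb.le')).trans (le_sup_left.trans (m.trans (centralizer_anti (h.l.hb.le.trans le_sup_left)))))))
  have c2 : Nat.card ↥(E ⊓ 𝐍(U ⊔ A)) ≤ 2 * Nat.card ↥(E ⊓ 𝐍(U ⊔ A) ⊓ 𝐍(U)) := two_mul' fun x hx z hz x0 z0 => by
    rw [← cj_eq_self_iff, cj_mul, (k3 z hz z0).1, (k3 x hx x0).2]
  have c3 : E ⊓ 𝐍(U ⊔ A) ⊓ 𝐍(U) ≤ A ⊔ (U ⊔ 𝐂(P)) := fun x hx => h.lin pY ⟨TY (hE.1 hx.1.1), hx.2⟩ (.inr fun r hr => by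
    rw [← conj_fix he (q x hx.1.1 r hr)]
    exact centralizer_anti le_sup_left (mv c (h.l.hb.le (cm_mem hx.2 hr.1))))
  have l3 : E ⊓ 𝐍(U ⊔ A) ⊓ 𝐍(U) ≤ E := inf_le_left.trans inf_le_left
  rcases h.l.hb.inv' (isElemAb_of_le hE.2.1 l3) c3 with c4 | c4
  · exact move0 h.l.hb b hE (le_sup_left.trans l) l3 c4 (by omega) fun u hu =>
      conj_fix he hu.2 ▸ centralizer_anti le_sup_left (mv c (h.l.hb.le hu.1))
  · exact move0 h.r.hb (h.card_eq ▸ b) hE (le_sup_right.trans l) l3 c4 (by omega) fun u hu =>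
      conj_fix he hu.2 ▸ centralizer_anti le_sup_right (mv c (h.l.hb.le' hu.1))

end Lx

open Lx

namespace GY
variable (y : GY d Y) (h : PY Y U A P P')
include y h

theorem lp1 (h₁ : PY Y U₁ A₁ P₁ P₁') (n : U₁ ≤ 𝐍(U)) (n' : U ≤ 𝐍(U₁)) (c : ¬ U₁ ≤ 𝐂(U)) : U₁ = A ∧ A₁ = U :=
  ⟨lp2 y h h₁ n n' c, (lp2 y h₁ h n' n (mt le_centralizer_comm.1 c)).symm⟩

theorem kl (h₁ : PY Y U₁ A₁ P₁ P₁') (c : U₁ ⊔ A₁ ≤ 𝐂(U ⊔ A)) : P₁ ⊔ P₁' ≤ 𝐂(P ⊔ P') := by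
  have c' : U₁ ⊔ A₁ ≤ 𝐂(A ⊔ U) := sup_comm U A ▸ c
  obtain ⟨a1, b1⟩ := kl0 y h h₁.l (le_sup_left.trans c)
  obtain ⟨a2, b2⟩ := kl0 y h h₁.r (le_sup_right.trans c)
  obtain ⟨a3, b3⟩ := kl0 y h.symm h₁.l (le_sup_left.trans c')
  obtain ⟨a4, b4⟩ := kl0 y h.symm h₁.r (le_sup_right.trans c')
  rw [centralizer_sup]
  exact sup_le (le_inf (kl1 y h.l h₁.l a1 a3 b1 b2) (kl1 y h.r h₁.l a3 a1 b3 b4))
    (le_inf (kl1 y h.l h₁.r a2 a4 b2 b1) (kl1 y h.r h₁.r a4 a2 b4 b3))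

theorem lp (h₁ : PY Y U₁ A₁ P₁ P₁') (n : U₁ ⊔ A₁ ≤ 𝐍(U)) (n' : U ⊔ A ≤ 𝐍(U₁)) :
    (U₁ = U ∧ A₁ = A) ∨ (U₁ = A ∧ A₁ = U) ∨ P₁ ⊔ P₁' ≤ 𝐂(P ⊔ P') := by
  have m : U₁ ⊔ A₁ ≤ 𝐍(A) := (le_inf (sup_le h₁.l.lU h₁.l.lA) n).trans (h.l.nor.trans inf_le_right)
  have m' : U ⊔ A ≤ 𝐍(A₁) := (le_inf (sup_le h.l.lU h.l.lA) n').trans (h₁.l.nor.trans inf_le_right)
  by_cases c1 : U₁ ≤ 𝐂(U)
  · by_cases c2 : A₁ ≤ 𝐂(U)
    · by_cases c3 : U₁ ≤ 𝐂(A)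
      · by_cases c4 : A₁ ≤ 𝐂(A)
        · exact .inr (.inr (y.kl h h₁ (centralizer_sup U A ▸ sup_le (le_inf c1 c3) (le_inf c2 c4))))
        · exact .inr (.inl (y.lp1 h.symm h₁.symm (le_sup_right.trans m) (le_sup_right.trans m') c4).symm)
      · exact .inl (y.lp1 h.symm h₁ (le_sup_left.trans m) (le_sup_right.trans n') c3)
    · exact .inl (y.lp1 h h₁.symm (le_sup_right.trans n) (le_sup_left.trans m') c2).symm
  · exact .inr (.inl (y.lp1 h h₁ (le_sup_left.trans n) (le_sup_left.trans n') c1))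

theorem rcb (b : Nat.card U ≠ 4) : 𝐉[2](Y) ≤ 𝐍(U) := by
  obtain ⟨j1, E1, hE1, l1⟩ := h.jn y.pg
  obtain ⟨-, E2, hE2, l2⟩ := h.symm.jn y.pg
  rw [← h.nor] at hE2
  have lJ : U ⊔ A ≤ 𝐉[2](Y ⊓ 𝐍(U)) := sup_le (l1.trans (le_thompson hE1)) (l2.trans (le_thompson hE2))
  have JU : 𝐉[2](Y ⊓ 𝐍(U)) ≤ 𝐍(U) := (thompson_le _ _).trans inf_le_right
  have JR := j1.trans h.cent_R
  obtain ⟨T, hT⟩ : ∃ T, T = Y ⊓ 𝐍(𝐉[2](Y ⊓ 𝐍(U))) := ⟨_, rfl⟩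
  have TY : T ≤ Y := hT.le.trans inf_le_left
  have TJ : T ≤ 𝐍(𝐉[2](Y ⊓ 𝐍(U))) := hT.le.trans inf_le_right
  have NT : Y ⊓ 𝐍(U) ≤ T :=
    (le_inf inf_le_left (le_normalizer.trans (CF.PLocal.normalizer_le_normalizer_thompson 2 _))).trans hT.ge
  have l := h.le_nor.trans NT
  have k : ∀ x ∈ T, x ∈ 𝐍(U) ∨ (cj[x] U = A ∧ cj[x] A = U) ∨ cj[x] P ⊔ cj[x] P' ≤ 𝐂(P ⊔ P') := fun x hx =>
    (y.lp h (h.cj' (le_normalizer (TY hx))) (cj_sup x U A ▸ (cj_le_of_mem_normalizer (TJ hx) lJ).trans JU) (by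
      rw [← cj_normalizer]
      exact lJ.trans ((cj_eq_self (TJ hx)).ge.trans (cj_mono x JU)))).imp_left fun e => cj_eq_self_iff.1 e.1
  have RT : U ⊓ A ≤ T := inf_le_left.trans (le_sup_left.trans l)
  have ea : IsElementaryAbelian 2 (ncl (U ⊓ A) T) := isElemAb_of_le (isElemAb_omegaOneCenter 2 _) (ncl_le
    (le_omegaOneCenter (isElemAb_of_le h.l.hb.ea inf_le_left) (inf_le_left.trans (le_sup_left.trans lJ))
      (le_centralizer_comm.1 JR)) (TJ.trans (normalizer_le_normalizer_omegaOneCenter 2 _)))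
  have key : 𝐉[2](T) ≤ 𝐍(U) := by
    by_cases hJ : 𝐉[2](T) ≤ 𝐂(ncl (U ⊓ A) T)
    · refine CF.PLocal.thompson_le_iff.2 fun E hE => swap y.pg h b hE TY (le_sup_left.trans l) fun x hx =>
        (k x (hE.1 hx)).imp_right fun c => c.resolve_right fun m => h.nR fun r hr => ?_
      rw [← conj_eq_of_mem_centralizer (hJ (le_thompson hE hx)) (le_ncl _ _ hr)]
      exact centralizer_anti le_sup_left (m (mem_sup_left (conj_mem_cj x (h.l.hb.le hr.1))))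
    obtain ⟨E, hE, q, q0⟩ := CF.PLocal.exists_quadratic_maxAb (y.pg.to_le TY) (ncl_le_of_le RT) ea (le_normalizer_ncl _ _) hJ
    obtain ⟨g, hg, c⟩ : ∃ g ∈ T, ¬ cj[g] (U ⊓ A) ≤ 𝐂(E) := by
      by_contra! c
      exact q0 (commutator_eq_bot_iff_le_centralizer'.2 (le_centralizer_comm.1 (ncl_le_iff.2 c)))
    have hE' := CF.PLocal.conj_mem_maxAb hE (le_normalizer (inv_mem hg))
    rw [cj_le_iff, cj_centralizer] at c
    have q' := congrArg (cj[g⁻¹] ·) q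
    simp only [cj_commutator, cj_bot, cj_eq_self (le_normalizer_ncl (U ⊓ A) T (inv_mem hg))] at q'
    have := swap y.pg h b hE' TY (le_sup_left.trans l) fun x hx => (k x (hE'.1 hx)).imp_right fun c => c.resolve_right
      (move y.pg h b hE' TY l (fun x hx => k x (hE'.1 hx)) (fun x hx r hr => le_centralizer_comm.1
        (commutator_eq_bot_iff_le_centralizer'.1 q') ((commutator_comm _ _).le (commutator_mem_commutator hx (le_ncl _ _ hr)))) hx)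
    exact absurd (le_centralizer_comm.1 ((le_thompson (CF.PLocal.mem_maxAb_of_le hE' (le_inf (hE'.1.trans TY) this) NT)).trans JR)) c
  have e := CF.PLocal.thompson_eq_of_le (le_inf ((thompson_le _ _).trans TY) key) NT
  by_contra c
  exact (lt_inf_normalizer y.pg (lt_of_le_of_ne TY fun e => c (e ▸ key))).not_ge
    ((inf_le_inf_left _ (e ▸ CF.PLocal.normalizer_le_normalizer_thompson 2 T)).trans hT.ge)

end GY

end CF.Bm
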