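import Cfsg.Agent.Bm.A

/-! Baumann's theorem: reduction to the almost simple case. -/

set_option autoImplicit false
set_option linter.unusedSectionVars false

namespace CF.Bm

open Cfsg Subgroup CF.Loc CF.FF CF.GC CF.Sig
open scoped commutatorElement MatrixGroups

universe u
variable {G : Type u} [Group G] [Finite G] {H K T : Subgroup G} {c d e g k t x : G}

theorem Lst.of_equiv {X Y : Type u} [Group X] [Group Y] (h : Lst X) (ε : Y ≃* X) : Lst Y := by
  rcases h with ⟨F, _, _, n, a, b, h⟩ | ⟨F, _, _, m, a, b, ⟨f⟩⟩ | ⟨F, _, _, n, a, b, ⟨f⟩⟩ | ⟨F, _, _, n, a, b, ⟨f⟩⟩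
  · exact .inl ⟨F, _, _, n, a, b, h.imp (fun ⟨f⟩ => ⟨ε.trans f⟩) (.imp (fun ⟨f⟩ => ⟨ε.trans f⟩) fun ⟨f⟩ => ⟨ε.trans f⟩)⟩
  · exact .inr (.inl ⟨F, _, _, m, a, b, ⟨ε.trans f⟩⟩)
  · exact .inr (.inr (.inl ⟨F, _, _, n, a, b, ⟨ε.trans f⟩⟩))
  · exact .inr (.inr (.inr ⟨F, _, _, n, a, b, ⟨ε.trans f⟩⟩))

theorem dd_of (sq : x * x = 1) (ne : x ≠ 1) (hT : IsSyl 2 T ⊤) (l : T ≤ 𝐂(zpowers x)) (n : 𝐂(zpowers x) ≤ 𝐍(T)) : Dd x :=
  ⟨sq, ne, (hT.eq_of_le (Sy_pg x) (le_pCoreOf hT.isPGroup l n) le_top).symm ▸ hT⟩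

theorem Dd.triv {X : Type*} [Group X] [Finite X] [IsSimpleGroup X] (h : Dd d) (ns : ¬ Group.IsSolvable X) (φ : X →* G)
    (l : ∀ x, d * φ x = φ x * d) (x : X) : φ x = 1 := by
  refine ((inferInstance : φ.ker.Normal).eq_bot_or_eq_top.resolve_left fun k => ns ?_).ge (mem_top x)
  have i := (MonoidHom.ker_eq_bot_iff φ).1 k
  have nm : ((Sy d).comap φ).Normal := ⟨fun y hy g => by
    simpa using conj_mem_of_mem_normalizer (cent_le_norm d (mem_cz.2 (l g))) hy⟩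
  rcases nm.eq_bot_or_eq_top with e | e
  · refine Hyp.isSolvable_of_odd (Nat.not_even_iff_odd.1 fun ev => ?_)
    haveI := Nat.fact_prime_two
    obtain ⟨y, hy⟩ := exists_prime_orderOf_dvd_card' 2 ev.two_dvd
    have m : y ∈ (Sy d).comap φ := h.mem_of_comm (by rw [← map_mul, ← pow_two, ← hy, pow_orderOf_eq_one, map_one]) (l y)
    rw [e, mem_bot] at m
    simp [m] at hy
  · haveI := Nat.fact_prime_two
    haveI := (((e ▸ (Sy_pg d).comap_of_injective φ i : IsPGroup 2 (⊤ : Subgroup X))).of_equiv topEquiv).isNilpotent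
    infer_instance

/-- a simple subnormal subgroup -/
structure Cp (K : Subgroup G) : Prop where
  si : IsSimpleGroup K
  cp : IsComponent K
  zc : K ⊓ 𝐂(K) = ⊥

namespace Cp
variable (h : Cp K)
include h

theorem ns : ¬ Group.IsSolvable K := qs_not_isSolvable h.cp.2

theorem one (hx : x ∈ K) (c : x ∈ 𝐂(K)) : x = 1 := mem_bot.1 (h.zc ▸ (⟨hx, c⟩ : x ∈ K ⊓ 𝐂(K)))

theorem nc (hd : Dd d) : d ∉ 𝐂(K) := fun c => comp_ne_bot h.cp (eq_bot_iff.2 fun x hx =>
  have := h.si; hd.triv h.ns K.subtype (fun y => (mem_centralizer_iff'.1 c y y.2).symm) ⟨x, hx⟩)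

theorem nm (hd : Dd d) : d ∈ 𝐍(K) := by_contra fun n => by
  have := h.si
  have c : cj[d] K ≤ 𝐂(K) := commutator_eq_bot_iff_le_centralizer'.1
    (comp_commutator_eq_bot_of_ne h.cp (comp_map_conj h.cp d) fun e => n (cj_eq_self_iff.1 e.symm))
  have c' : ∀ x y : K, (x : G) * (d * y * d⁻¹) = d * y * d⁻¹ * x := fun x y =>
    mem_centralizer_iff'.1 (c (conj_mem_cj d y.2)) x x.2
  have i : d⁻¹ = d := inv_eq_of_mul_eq_one_left hd.sq
  let φ : K →* G := MonoidHom.mk' (fun x => x * (d * x * d⁻¹)) fun x y => by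
    rw [coe_mul, ← conj_mul, mul_assoc, ← mul_assoc (y : G), c']; simp only [mul_assoc]
  refine n (mem_normalizer_of_conj_mem fun x hx => ?_)
  have := hd.triv h.ns φ (fun y => by
    change d * (y * (d * y * d⁻¹)) = y * (d * y * d⁻¹) * d
    nth_rw 2 [c']
    simp only [i, mul_assoc]) ⟨x, hx⟩
  exact eq_inv_of_mul_eq_one_right this ▸ inv_mem hx

theorem co (hd : Dd d) (l : K ≤ H) (n : H ≤ 𝐍(K)) (m : x ∈ H) (sq : x * x = 1) (ne : x ≠ 1)
    (gen : ∀ g ∈ H, g ∈ K ∨ g * x ∈ K) (cen : H ⊓ 𝐂(K) = ⊥) (sy : IsSyl 2 (Sy d ⊓ H) H)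
    (e : ∀ g ∈ H, x * g = g * x ↔ d * g = g * d) : Co (K.subgroupOf H) ⟨x, m⟩ := by
  have := h.si
  have cz : ∀ g : H, g ∈ 𝐂(zpowers (⟨x, m⟩ : H)) ↔ d * g = g * d := fun g => mem_cz.trans (Subtype.ext_iff.trans (e g g.2))
  refine ⟨(subgroupOfEquivOfLe l).isSimpleGroup, ?_, (normal_subgroupOf_iff_le_normalizer l).2 n, fun g => gen g g.2,
    eq_bot_iff.2 fun g hg => Subtype.ext (mem_bot.1 (cen ▸ (⟨g.2, mem_centralizer_iff'.2 fun y hy =>
      congrArg Subtype.val (mem_centralizer_iff'.1 hg ⟨y, l hy⟩ hy)⟩ : (g : G) ∈ H ⊓ 𝐂(K)))),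
    dd_of (T := (Sy d ⊓ H).subgroupOf H) (Subtype.ext sq) (fun k => ne (congrArg Subtype.val k)) (isSyl_top sy.toSylow)
      (fun g hg => (cz g).2 (comm_of_mem hg.1)) fun g hg => mem_normalizer_of_conj_mem fun y hy =>
        ⟨conj_mem_of_mem_normalizer (cent_le_norm d (mem_cz.2 ((cz g).1 hg))) hy.1, (g * y * g⁻¹).2⟩⟩
  exact comp_perfect (comp_subgroupOf h.cp l)

theorem syl (hd : Dd d) : IsSyl 2 (Sy d ⊓ K) K := haveI := Nat.fact_prime_two; (sn_top_iff.2 h.cp.1).isSyl_inf hd.syl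

variable (core : ∀ (G : Type u) [Group G] [Finite G] (K : Subgroup G) (t : G), Co K t → Cc K t)
include core

theorem inner (hd : Dd d) : ∃ k ∈ K, k⁻¹ * d ∈ 𝐂(K) := by_contra fun n => by
  haveI := Nat.fact_prime_two
  have nm := zpowers_le.2 (h.nm hd)
  have dec : ∀ g ∈ K ⊔ zpowers d, g ∈ K ∨ g * d ∈ K := fun g hg => by
    obtain ⟨a, ha, b, hb, rfl⟩ := (Loc.mem_sup_of_le_normalizer nm).1 hg
    rcases eq_or_of_mem_zpowers hd.sq hb with rfl | rfl
    exacts [.inl (by simpa using ha), .inr (by simpa [mul_assoc, hd.sq] using ha)]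
  refine n ⟨d, (core _ _ _ (h.co hd le_sup_left (sup_le le_normalizer nm) (mem_sup_right (mem_zpowers d)) hd.sq hd.ne dec
    (eq_bot_iff.2 fun g hg => (dec g hg.1).elim (fun k => h.one k hg.2) fun k => (n ⟨_, k, by
      simpa [mul_assoc] using conj_mem_of_mem_normalizer' (normalizer_le_normalizer_centralizer K (h.nm hd)) (inv_mem hg.2)⟩).elim)
    ⟨inf_le_right, (Sy_pg d).to_le inf_le_left, fun Q hQ l l' => le_antisymm (fun g hg => ⟨?_, l' hg⟩) l⟩
    fun _ _ => Iff.rfl)).mem, by simp⟩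
  have e := ((h.syl hd).eq_of_le (hQ.to_le inf_le_left)
    (le_inf ((inf_le_inf_left _ le_sup_left).trans l) inf_le_right) inf_le_right).le.trans inf_le_left
  exact (dec g (l' hg)).elim (fun k => e ⟨hg, k⟩) fun k => (mul_mem_cancel_right hd.mem).1
    (e ⟨mul_mem hg (l ⟨hd.mem, mem_sup_right (mem_zpowers d)⟩), k⟩)

theorem co' (hd : Dd d) (hk : k ∈ K) (c : k⁻¹ * d ∈ 𝐂(K)) : Co (K.subgroupOf K) ⟨k, hk⟩ := by
  have c' := mem_centralizer_iff'.1 c
  have e : ∀ g ∈ K, k * g = g * k ↔ d * g = g * d := fun g hg => by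
    rw [← mul_inv_cancel_left k d, mul_assoc, ← c' g hg, ← mul_assoc, ← mul_assoc g, mul_left_inj]
  refine h.co hd le_rfl le_normalizer hk (h.one (mul_mem hk hk) ?_) (fun e => h.nc hd (by simpa [e] using c))
    (fun g hg => .inl hg) h.zc (h.syl hd) e
  have : k * k * (k⁻¹ * d * (k⁻¹ * d)) = 1 := by
    rw [mul_assoc, ← mul_assoc k (k⁻¹ * d), c' k hk, ← hd.sq]; group
  exact eq_inv_of_mul_eq_one_left this ▸ inv_mem (mul_mem c c)

theorem lst (hd : Dd d) : Lst K :=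
  let ⟨_, hk, c⟩ := h.inner core hd; (core _ _ _ (h.co' core hd hk c)).lst.of_equiv (subgroupOfEquivOfLe le_rfl).symm

theorem fuse (hd : Dd d) (he : Dd e) : ∃ k ∈ K, (k * d * k⁻¹)⁻¹ * e ∈ 𝐂(K) := by
  obtain ⟨a, ha, c⟩ := h.inner core hd
  obtain ⟨b, hb, c'⟩ := h.inner core he
  obtain ⟨k, e⟩ := isConj_iff.1 ((core _ _ _ (h.co' core hd ha c)).conj _ (h.co' core he hb c').dd)
  have e' : (k : G) * a * (k : G)⁻¹ = b := congrArg Subtype.val e
  refine ⟨k, k.2, ?_⟩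
  have := mul_mem (inv_mem (conj_mem_of_mem_normalizer (normalizer_le_normalizer_centralizer K (le_normalizer k.2)) c)) c'
  rw [← e'] at this
  convert this using 1
  group

end Cp

theorem reduce (core : ∀ (G : Type u) [Group G] [Finite G] (K : Subgroup G) (t : G), Co K t → Cc K t)
    (hS : ∀ M : Subgroup G, M.Normal → Group.IsSolvable ↥M → M = ⊥)
    (t : G) (ht : orderOf t = 2) (S : Sylow 2 G) (hSt : (S : Subgroup G) ≤ Subgroup.centralizer ({t} : Set G))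
    (hSn : ((S : Subgroup G).subgroupOf (Subgroup.centralizer ({t} : Set G))).Normal)
    (N : Subgroup G) (hN : N.Normal) (hN2 : ∀ P : Sylow 2 G, (N ⊔ (P : Subgroup G)).Normal)
    (hNmin : ∀ M : Subgroup G, M.Normal → (∀ P : Sylow 2 G, (M ⊔ (P : Subgroup G)).Normal) → N ≤ M) :
    ∃ (k : ℕ) (E : Fin k → Subgroup G), (⨆ i, E i) = N ∧ (∀ i j, i ≠ j → ∀ x ∈ E i, ∀ y ∈ E j, x * y = y * x) ∧
      (∀ i, Disjoint (E i) (⨆ (j : Fin k) (_ : j ≠ i), E j)) ∧ ∀ i, Lst ↥(E i) := by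
  haveI := Nat.fact_prime_two
  have hd : Dd t := dd_of (by rw [← pow_two, ← ht, pow_orderOf_eq_one]) (fun e => by simp [e] at ht) (isSyl_top S)
    (centralizer_zpowers t ▸ hSt) (centralizer_zpowers t ▸ (normal_subgroupOf_iff_le_normalizer hSt).1 hSn)
  have F0 := hS _ inferInstance (fitting_isSolvable (G := G))
  have cp : ∀ K : Subgroup G, IsComponent K → Cp K := fun K hK => by
    have z : K ⊓ 𝐂(K) = ⊥ := eq_bot_iff.2 (F0 ▸ center_comp_le_fitting hK)
    have := qs_nontrivial hK.2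
    exact ⟨⟨fun M n => (qs_normal hK.2 M n).symm.imp_left fun l => eq_bot_iff.2 (l.trans fun x hx => Subtype.ext
      (mem_bot.1 (z ▸ map_center_subtype K ▸ mem_map_of_mem _ hx)))⟩, hK, z⟩
  have cm : ∀ {K L : Subgroup G}, IsComponent K → IsComponent L → K ≠ L → L ≤ 𝐂(K) := fun hK hL n =>
    commutator_eq_bot_iff_le_centralizer'.1 (comp_commutator_eq_bot_of_ne hK hL n)
  have fu : ∀ {d e : G}, Dd d → Dd e → ∃ x ∈ layer G, x * d * x⁻¹ = e := fun {d e} h1 h2 => by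
    have : ∀ s : Set (Subgroup G), (∀ K ∈ s, IsComponent K) → ∃ x ∈ layer G, ∀ K ∈ s, (x * d * x⁻¹)⁻¹ * e ∈ 𝐂(K) := fun s => by
      induction s, s.toFinite using Set.Finite.induction_on with
      | empty => exact fun _ => ⟨1, one_mem _, fun _ k => k.elim⟩
      | @insert K s ns _ ih =>
        intro hs
        have hK := hs K (.inl rfl)
        obtain ⟨x, hx, c⟩ := ih fun L hL => hs L (.inr hL)
        obtain ⟨k, hk, c'⟩ := (cp K hK).fuse core (h1.cj x) h2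
        refine ⟨k * x, mul_mem (comp_le_layer hK hk) hx, ?_⟩
        rintro L (rfl | hL)
        · simpa only [_root_.mul_inv_rev, mul_assoc] using c'
        have l := cm (hs L (.inr hL)) hK fun e => ns (e ▸ hL)
        have := mul_mem (mul_mem (l hk) (l (conj_mem_of_mem_normalizer' ((cp K hK).nm (h1.cj x)) (inv_mem hk)))) (c L hL)
        convert this using 1
        group
    obtain ⟨x, hx, c⟩ := this _ fun _ k => k
    refine ⟨x, hx, inv_mul_eq_one.1 (mem_bot.1 (F0 ▸ centralizer_fstar_le_fitting ?_))⟩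
    rw [centralizer_fstar, F0]
    exact ⟨le_cz_iff.1 (layer_le fun K hK => le_cz_iff.2 (c K hK)), by simp⟩
  have eN : layer G = N := le_antisymm (layer_le fun K hK => ?_) (hNmin _ inferInstance fun P => ?_)
  · let f := Finite.equivFin {K : Subgroup G // IsComponent K}
    have ι : ∀ {i j}, i ≠ j → (f.symm j).1 ≤ 𝐂((f.symm i).1) := fun n =>
      cm (f.symm _).2 (f.symm _).2 fun e => n (f.symm.injective (Subtype.ext e))
    refine ⟨_, fun i => (f.symm i).1, ?_, fun i j n x hx y hy => mem_centralizer_iff'.1 (ι n hy) x hx, fun j =>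
      disjoint_iff.2 (eq_bot_iff.2 ((cp _ (f.symm j).2).zc ▸ inf_le_inf_left _ (iSup₂_le fun k n => ι n.symm))),
      fun i => (cp _ (f.symm i).2).lst core hd⟩
    rw [← eN, f.symm.iSup_comp (g := Subtype.val), layer, sSup_eq_iSup']
    rfl
  · refine (comp_le_or_commutator_eq_bot hK hN.isSubnormal).resolve_right fun c => ?_
    obtain ⟨P, e⟩ := hd.syl.exists_sylow_top
    have l := (comp_le_or_commutator_eq_bot hK (hN2 P).isSubnormal).resolve_right fun c => (cp K hK).nc hd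
      (commutator_eq_bot_iff_le_centralizer'.1 c (mem_sup_right (e ▸ hd.mem)))
    haveI := (isPGroup_of_pResidualOf_eq_bot (p := 2) (eq_bot_iff.2 ((cp K hK).zc ▸ le_inf (pResidualOf_le _ _)
      (((pResidualOf_mono l).trans (pResidualOf_sup_le P.isPGroup' le_normalizer_of_normal)).trans
        (commutator_eq_bot_iff_le_centralizer'.1 c))))).isNilpotent
    exact (cp K hK).ns inferInstance
  obtain ⟨e, he, l⟩ := hd.exists_dd P.isPGroup'
  rw [← (isSyl_top P).eq_of_le (Sy_pg e) l le_top]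
  refine normal_of_top_le_normalizer (le_normalizer_iff_cj.2 fun g _ => ?_)
  obtain ⟨x, hx, k⟩ := fu he (he.cj g)
  rw [cj_sup, cj_normal, cj_Sy, ← k, ← cj_Sy]
  exact sup_le le_sup_left (cj_le_of_mem (mem_sup_left hx) le_sup_right)

end CF.Bm
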