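import Cfsg.Agent.Bm.P2
import Cfsg.Agent.Bm.L2
import Cfsg.Agent.Bm.M1
import Cfsg.Agent.Bm.G0
import Cfsg.Agent.Bm.R1
import Cfsg.Agent.CIT.TI
import Cfsg.Agent.Invol.MaxClass
import Cfsg.Agent.S1170

/-! Baumann's theorem: the case of a unique big pair. -/

set_option autoImplicit false
set_option linter.unusedSectionVars false

namespace CF.Bm

open Cfsg Subgroup CF.Loc CF.FF CF.GC
open CF.PLocal (maxAb thompson_le le_thompson upT)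
open scoped commutatorElement MatrixGroups

universe u
variable {G : Type u} [Group G] [Finite G]
variable {A B E E' K L P P' Q U Y : Subgroup G} {a d e f g t u x y z : G}

/-- the torus action on `C_Y(U A)` modulo `C(P)` -/
theorem HF.torus (h : HF Y U A P) (b : Nat.card U ≠ 4) :
    (∀ x ∈ Y ⊓ 𝐂(U) ⊓ 𝐂(A), ∀ y ∈ Y ⊓ 𝐂(U) ⊓ 𝐂(A), x ∉ 𝐂(P) → y ∉ 𝐂(P) → ∃ s ∈ P ⊓ 𝐍(A), y⁻¹ * (s * x * s⁻¹) ∈ 𝐂(P)) ∧
    ∃ s ∈ P ⊓ 𝐍(A), ∃ s' ∈ P ⊓ 𝐍(A), ∀ x ∈ Y ⊓ 𝐂(U) ⊓ 𝐂(A), x * (s * x * s⁻¹) * (s' * x * s'⁻¹) ∈ 𝐂(P) := by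
  have l := le_inf h.lU h.hb.ab
  have nV := (h.hb.norm_of_le l h.cen).2
  obtain ⟨F, _, _, ρ, ψ₀, k⟩ := h
  obtain ⟨ψ, n, -⟩ := k.toHb.extend l k.cen nV
  have d : ∀ c : F, c ≠ 0 → ∃ s ∈ P ⊓ 𝐍(A), ∀ x ∈ Y ⊓ 𝐂(U) ⊓ 𝐂(A), ψ (s * x * s⁻¹) = ![c * ψ x 0, 0] := fun c c0 => by
    obtain ⟨s, hs, e⟩ := n.ρsurj (dg c c0)
    exact ⟨s, ⟨hs, k.bor s hs (by rw [e]; rfl)⟩, fun x hx => by
      rw [n.equiv s hs x hx.1, e, dg_smul, (n.fix x hx.1).1 hx.2, mul_zero]⟩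
  have z : ∀ x ∈ Y ⊓ 𝐂(U) ⊓ 𝐂(A), ψ x = ![ψ x 0, 0] := fun x hx => by
    ext i; fin_cases i; exacts [rfl, (n.fix x hx.1).1 hx.2]
  have z0 : ∀ x ∈ Y ⊓ 𝐂(U) ⊓ 𝐂(A), x ∉ 𝐂(P) → ψ x 0 ≠ 0 := fun x hx c e => c ((n.ker x hx.1).1 (by rw [z x hx, e]; simp))
  refine ⟨fun x hx y hy cx cy => ?_, ?_⟩
  · obtain ⟨s, hs, e⟩ := d (ψ y 0 / ψ x 0) (div_ne_zero (z0 y hy cy) (z0 x hx cx))
    refine ⟨s, hs, (n.ψ_eq_iff hy.1 (n.conj_mem hs.1 hx.1)).1 ?_⟩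
    rw [e x hx, div_mul_cancel₀ _ (z0 x hx cx), ← z y hy]
  · obtain ⟨c, c0, c1⟩ : ∃ c : F, c ≠ 0 ∧ c ≠ 1 := by
      classical
      by_contra! c
      have := Nat.card_le_card_of_surjective (fun b : Bool => if b then (1 : F) else 0) fun x =>
        if e : x = 0 then ⟨false, e.symm⟩ else ⟨true, (c x e).symm⟩
      have := k.four b
      simp at *; omega
    obtain ⟨s, hs, e⟩ := d c c0
    obtain ⟨s', hs', e'⟩ := d (1 - c) (sub_ne_zero.2 c1.symm)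
    refine ⟨s, hs, s', hs', fun x hx => ?_⟩
    have m := n.conj_mem hs.1 hx.1
    have m' := n.conj_mem hs'.1 hx.1
    rw [← n.ker _ (mul_mem (mul_mem hx.1 m) m'), n.ψmul _ (mul_mem hx.1 m) _ m', n.ψmul _ hx.1 _ m, e x hx, e' x hx, z x hx]
    ext i; fin_cases i
    · simp; linear_combination ψ x 0 * k.two
    · simp

theorem Dd.maxAb_of (hd : Dd d) (he : Dd e) (hE : E ∈ maxAb 2 (Sy d)) (m : e ∈ E) : E ∈ maxAb 2 (Sy e) ∧ d ∈ E := by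
  obtain ⟨g, l⟩ := hd.exists_Sy_eq he
  have : cj[g] E ∈ maxAb 2 (cj[g] (Sy d)) := PLocal.map_mem_maxAb (MulAut.conj g).injective.injOn hE
  rw [cj_Sy, l] at this
  exact ⟨PLocal.mem_maxAb_of_card_le this (he.le' (isElemAb_isPGroup hE.2.1) (isElemAb_le_centralizer hE.2.1 m)) hE.2.1
    (card_cj g E).le, PLocal.mem_of_mem_centralizer_maxAb hE hd.mem (mem_cent hE.1) (by rw [_root_.sq, hd.sq])⟩

/-- a unique big pair at `d` -/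
structure EB (d : G) (U A P P' : Subgroup G) : Prop where
  pa : Pa d U A P P'
  big : Nat.card U ≠ 4
  cen : ∀ x ∈ 𝐂(P), x ∈ 𝐂(P') → x = 1
  one : ∀ U₁ A₁ P₁ P₁', Pa d U₁ A₁ P₁ P₁' → U₁ = U ∨ U₁ = A

namespace EB
variable (h : EB d U A P P')
include h

protected theorem symm : EB d A U P' P :=
  ⟨h.pa.symm, h.pa.py.card_eq ▸ h.big, fun x a b => h.cen x b a, fun _ _ _ _ m => (h.one _ _ _ _ m).symm⟩

protected theorem cj (g : G) : EB (g * d * g⁻¹) (cj[g] U) (cj[g] A) (cj[g] P) (cj[g] P') := by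
  refine ⟨h.pa.cj g, card_cj g U ▸ h.big, fun x a b => ?_, fun U₁ A₁ P₁ P₁' m => ?_⟩
  · rw [← cj_centralizer, mem_cj] at a b
    rw [← mul_inv_cancel_left g x, ← mul_inv_cancel_right (g⁻¹ * x) g, h.cen _ a b, one_mul, mul_inv_cancel]
  · exact (h.one _ _ _ _ ((show g⁻¹ * (g * d * g⁻¹) * g⁻¹⁻¹ = d by group) ▸ m.cj g⁻¹)).imp
      (fun e => by rw [← e, cj_cj_inv]) fun e => by rw [← e, cj_cj_inv]

theorem tr (he : Dd e) (l : Sy e = Sy d) : EB e U A P P' :=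
  ⟨h.pa.tr he ((baumann_le 2 _).trans (inf_le_left.trans l.ge)), h.big, h.cen,
    fun _ _ _ _ m => h.one _ _ _ _ (m.tr h.pa.dd ((baumann_le 2 _).trans (inf_le_left.trans l.le)))⟩

theorem hb : HB U A P := h.pa.py.l.hb

theorem split (hx : x ∈ Sy d ⊓ 𝐂(U)) : ∃ u ∈ U, ∃ c ∈ Sy d ⊓ 𝐂(P), x = u * c ∧ x * x = c * c := by
  obtain ⟨u, hu, c, hc, rfl⟩ := h.hb.exists_mul' (h.pa.py.l.cen hx)
  exact ⟨u, hu, c, ⟨(mul_mem_cancel_left (h.pa.py.l.lU hu)).1 hx.1, hc⟩, rfl, by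
    rw [mul_assoc, ← mul_assoc c, ← hc u (h.hb.le hu), mul_assoc u, ← mul_assoc u, sq_of_ea h.hb.ea hu, one_mul]⟩

theorem ea : IsElementaryAbelian 2 (Sy d ⊓ 𝐂(U)) := ea_of_sq fun x hx => by
  obtain ⟨-, -, c, hc, -, e⟩ := h.split hx
  obtain ⟨-, -, c', hc', -, e'⟩ := h.symm.split ⟨hc.1, centralizer_anti h.hb.le' hc.2⟩
  exact e ▸ h.cen _ (mul_mem hc.2 hc.2) (e' ▸ mul_mem hc'.2 hc'.2)

theorem ab : Sy d ⊓ 𝐂(U) ≤ 𝐂(Sy d ⊓ 𝐂(U)) := isElemAb_le_centralizer h.ea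

theorem J_le : 𝐉[2](Sy d) ≤ Sy d ⊓ 𝐍(U) := le_inf (thompson_le 2 _) (h.pa.gy.rcb h.pa.py h.big)

theorem J_le' : 𝐉[2](Sy d) ≤ A ⊔ (U ⊔ 𝐂(P)) :=
  PLocal.thompson_eq_of_le h.J_le inf_le_left ▸ (h.pa.py.jn (Sy_pg d)).1

theorem max : Sy d ⊓ 𝐂(U) ∈ maxAb 2 (Sy d) := by
  obtain ⟨E, hE, l⟩ := (h.pa.py.jn (Sy_pg d)).2
  rw [PLocal.maxAb_eq_of_thompson_le h.J_le inf_le_left] at hE
  exact PLocal.mem_maxAb_of_card_le hE inf_le_left h.ea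
    (card_le_card_of_le (le_inf hE.1 ((isElemAb_le_centralizer hE.2.1).trans (centralizer_anti l))))

theorem J_eq : 𝐉[2](Sy d) = (Sy d ⊓ 𝐂(U)) ⊔ (Sy d ⊓ 𝐂(A)) :=
  le_antisymm (PLocal.thompson_le_iff.2 fun _ hE => (h.hb.inv' hE.2.1 ((le_thompson hE).trans h.J_le')).elim
    (fun c => le_sup_of_le_left (le_inf hE.1 c)) fun c => le_sup_of_le_right (le_inf hE.1 c))
    (sup_le (le_thompson h.max) (le_thompson h.symm.max))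

theorem nJ : 𝐉[2](Sy d) ≤ 𝐍(Sy d ⊓ 𝐂(U)) :=
  le_normalizer_inf ((thompson_le 2 _).trans le_normalizer) (le_normalizer_centralizer (h.J_le.trans inf_le_right))

theorem dich (hx : x ∈ Sy d ⊓ 𝐂(U)) (hy : y ∈ Sy d ⊓ 𝐂(A)) (c : y * x = x * y) : x ∈ 𝐂(A) ∨ y ∈ 𝐂(U) := by
  obtain ⟨u, hu, z, hz, rfl, -⟩ := h.split hx
  have hz' := centralizer_anti h.hb.le' hz.2
  refine or_iff_not_imp_right.2 fun y0 => mul_mem (Lx.fix h.hb (h.J_le' (le_thompson h.symm.max hy)) y0 hu ?_) hz'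
  rw [mul_assoc, ← h.symm.ab ⟨hz.1, hz'⟩ y hy, ← mul_assoc, ← mul_assoc, mul_left_inj] at c
  rw [cm_one c]
  exact one_mem _

theorem cJ₀ (he : Dd e) (m : e ∈ Sy d ⊓ 𝐂(U)) (hx : x ∈ 𝐉[2](Sy d)) (c : e * x = x * e) : x ∈ 𝐉[2](Sy e) := by
  have l := le_thompson (h.pa.dd.maxAb_of he h.max m).1
  obtain ⟨a, ha, b, hb, rfl⟩ := (mem_sup_of_le_normalizer ((le_thompson h.symm.max).trans h.nJ)).1 (h.J_eq ▸ hx)
  rw [← mul_assoc, h.ab ha e m, mul_assoc, mul_assoc, mul_right_inj] at c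
  exact mul_mem (l ha) ((h.dich m hb c.symm).elim
    (fun k => le_thompson (h.pa.dd.maxAb_of he h.symm.max ⟨m.1, k⟩).1 hb) fun k => l ⟨hb.1, k⟩)

theorem cJ (he : Dd e) (m : e ∈ 𝐉[2](Sy d)) :
    d ∈ 𝐉[2](Sy e) ∧ ∀ x ∈ 𝐉[2](Sy d), e * x = x * e → x ∈ 𝐉[2](Sy e) := by
  have k : ∀ x ∈ 𝐉[2](Sy d), e * x = x * e → x ∈ 𝐉[2](Sy e) := fun x hx c => (h.hb.inv (h.J_le' m) he.sq).elim
    (fun k => h.cJ₀ he ⟨thompson_le 2 _ m, k⟩ hx c) fun k => h.symm.cJ₀ he ⟨thompson_le 2 _ m, k⟩ hx c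
  exact ⟨k d (le_thompson h.max ⟨h.pa.dd.mem, mem_cent h.pa.py.l.lU⟩) (comm_of_mem (thompson_le 2 _ m)).symm, k⟩

theorem cl : ⁅𝐉[2](Sy d), 𝐉[2](Sy d)⁆ ≤ 𝐂(𝐉[2](Sy d)) := by
  have z : Sy d ⊓ 𝐂(U) ⊓ (Sy d ⊓ 𝐂(A)) ≤ 𝐂(𝐉[2](Sy d)) := by
    rw [h.J_eq, centralizer_sup]; exact inf_le_inf h.ab h.symm.ab
  have n := le_normalizer_inf h.nJ h.symm.nJ
  have n1 := (le_thompson h.max).trans n
  have n2 := (le_thompson h.symm.max).trans n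
  have k := le_inf (commutator_le_left_of_le_normalizer ((le_thompson h.symm.max).trans h.nJ))
    (commutator_le_right_of_le_normalizer ((le_thompson h.max).trans h.symm.nJ))
  refine le_trans ?_ z
  rw [h.J_eq]
  exact commutator_sup_left_le n1 n2 (commutator_sup_right_le n1 n2 (comm_le_of_cent h.ab) k)
    (commutator_sup_right_le n1 n2 ((commutator_comm _ _).le.trans k) (comm_le_of_cent h.symm.ab))

theorem nT : P ⊓ 𝐍(A) ≤ 𝐍(Sy d ⊓ 𝐂(U) ⊓ 𝐂(A)) :=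
  le_normalizer_inf (inf_le_left.trans (h.hb.norm_of_le (le_inf h.pa.py.l.lU h.hb.ab) h.pa.py.l.cen).2)
    (le_normalizer_centralizer inf_le_right)

theorem memK (k : Co K t) (hx : x ∈ Sy d ⊓ 𝐂(U) ⊓ 𝐂(A)) : x ∈ K := by
  have key : ∀ x s s' : G, x * (s * x * s⁻¹) * (s' * x * s'⁻¹) ∈ K → x ∈ K := fun x s s' m => by
    rw [show x * (s * x * s⁻¹) = x * s * (x * s) * (s⁻¹ * s⁻¹) by group,
      mul_mem_cancel_left (mul_mem (k.sq_mem _) (k.sq_mem _))] at m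
    simpa [mul_assoc] using k.nrm.conj_mem _ m s'⁻¹
  obtain ⟨s, hs, s', hs', c⟩ := (h.pa.py.l.torus h.big).2
  obtain ⟨r, hr, r', hr', c'⟩ := (h.pa.py.r.torus h.symm.big).2
  have m := mul_mem (mul_mem hx (conj_mem_of_mem_normalizer (h.nT hs) hx)) (conj_mem_of_mem_normalizer (h.nT hs') hx)
  have n := fun r hr => conj_mem_of_mem_normalizer (normalizer_le_normalizer_centralizer P (h.pa.symm.bor (x := r) hr)) (c x hx)
  refine key x s s' (key _ r r' ?_)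
  rw [h.cen _ (mul_mem (mul_mem (c x hx) (n r hr)) (n r' hr')) (c' _ ⟨⟨m.1.1, m.2⟩, m.1.2⟩)]
  exact one_mem _

theorem conj (hx : x ∈ Sy d ⊓ 𝐂(U) ⊓ 𝐂(A)) (hy : y ∈ Sy d ⊓ 𝐂(U) ⊓ 𝐂(A)) (dx : Dd x) (dy : Dd y) : IsConj x y := by
  have sw : ∀ x ∈ Sy d ⊓ 𝐂(U) ⊓ 𝐂(A), x ∈ Sy d ⊓ 𝐂(A) ⊓ 𝐂(U) := fun x hx => ⟨⟨hx.1.1, hx.2⟩, hx.1.2⟩
  have sw' : ∀ x ∈ Sy d ⊓ 𝐂(A) ⊓ 𝐂(U), x ∈ Sy d ⊓ 𝐂(U) ⊓ 𝐂(A) := fun x hx => ⟨⟨hx.1.1, hx.2⟩, hx.1.2⟩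
  obtain ⟨s, hs, c⟩ := (h.pa.py.l.torus h.big).1 x hx y hy (h.hb.not_cent dx) (h.hb.not_cent dy)
  refine (isConj_iff.2 ⟨s, rfl⟩).trans ?_
  have hx := conj_mem_of_mem_normalizer (h.nT hs) hx
  have dx := dx.cj s
  generalize s * x * s⁻¹ = x at c hx dx
  by_cases c1 : y⁻¹ * x = 1
  · exact inv_mul_eq_one.1 c1 ▸ IsConj.refl _
  have tr := (h.pa.py.r.torus h.symm.big).1
  obtain ⟨r, hr, e⟩ := tr _ (sw _ (mul_mem (inv_mem hy) hx)) x (sw x hx) (fun k => c1 (h.cen _ c k)) (h.symm.hb.not_cent dx)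
  obtain ⟨r', hr', e'⟩ := tr x (sw x hx) y (sw y hy) (h.symm.hb.not_cent dx) (h.symm.hb.not_cent dy)
  have n := fun r hr x hx => conj_mem_of_mem_normalizer (x := x)
    (normalizer_le_normalizer_centralizer P (h.pa.symm.bor (x := r) hr)) hx
  have ha := n r hr _ c
  have hT := conj_mem_of_mem_normalizer (h.symm.nT hr) (sw _ (mul_mem (inv_mem hy) hx))
  generalize r * (y⁻¹ * x) * r⁻¹ = a at e ha hT
  refine isConj_iff.2 ⟨r', (inv_mul_eq_one.1 (h.cen _ ?_ e')).symm⟩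
  have e1 : r' * x * r'⁻¹ = r' * a * r'⁻¹ * a⁻¹ * x := by
    have := inv_mem e _ (inv_mem hr'.1)
    rw [mul_inv_rev, inv_inv] at this
    rw [mul_assoc _ a⁻¹, mul_assoc (r' * a), this]; group
  have m := mul_mem (conj_mem_of_mem_normalizer (h.symm.nT hr') hT) (inv_mem hT)
  rw [e1, ← mul_assoc, h.ab (sw' _ m).1 _ (inv_mem hy.1), mul_assoc]
  exact mul_mem (mul_mem (n r' hr' a ha) (inv_mem ha)) c

theorem sixteen : 16 ∣ Nat.card G ∧ 3 ∣ Nat.card G := by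
  obtain ⟨F, _, _, ρ, ψ, k⟩ := h.hb
  obtain ⟨n, hn⟩ := (isElemAb_isPGroup k.ea).exists_card_eq
  have c := k.nat.card_V'
  have f := k.four h.big
  have p : 0 < Nat.card ↥(U ⊓ 𝐂(P)) := Nat.card_pos
  refine ⟨((pow_dvd_pow 2 (show 4 ≤ n from ?_)).trans hn.symm.dvd).trans (card_subgroup_dvd_card U),
    (Dvd.dvd.trans ?_ (card_dvd_of_surjective _ k.nat.hom_surj)).trans (card_subgroup_dvd_card P)⟩
  · exact (Nat.pow_le_pow_iff_right one_lt_two).1 (by rw [← hn, c]; nlinarith)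
  · haveI : CharP F 2 := (CharP.charP_iff_prime_eq_zero Nat.prime_two).2 (by exact_mod_cast k.two)
    obtain ⟨m, -, e⟩ := FiniteField.card F 2
    rw [Classical.card_SL_two, e]
    exact (CIT.three_dvd_sq_sub_one m).mul_left _

end EB

theorem rlJ (th : TH G) (h : ∀ d : G, Dd d → ∃ U A P P', EB d U A P P') (hd : Dd d) (he : Dd e) (c : e ∈ Sy d) :
    e ∈ 𝐉[2](Sy d) := by
  have tb : ∀ X : Subgroup G, 𝐉[2](𝐁[2](X)) = 𝐉[2](X) := fun X =>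
    PLocal.thompson_eq_of_le (thompson_le_baumann 2 X) (baumann_le 2 X)
  refine Rl.all (r := fun d e => e ∈ 𝐉[2](Sy d)) ⟨fun g d e _ _ _ r => ?_, fun d e hd he _ r => ?_,
    fun d e f _ he _ _ _ c r r' => ?_, fun d e hd he b => ?_, fun B L d l hd _ s g hg => ?_⟩ th hd he (comm_of_mem c)
  · rw [← cj_Sy, ← cj_thompson]; exact conj_mem_cj g r
  · exact let ⟨_, _, _, _, k⟩ := h d hd; (k.cJ he r).1
  · obtain ⟨_, _, _, _, k⟩ := h d ‹_›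
    obtain ⟨_, _, _, _, k'⟩ := h e he
    exact (k'.cJ ‹_› (k.cJ he r).1).2 f r' c
  · rw [← tb, b, tb]
    exact PLocal.mem_thompson_of_centralizer he.mem (mem_cent (thompson_le 2 _)) (by rw [sq, he.sq])
  · refine (?_ : _ ≤ 𝐉[2](Sy d)) (conj_mem_of_mem_normalizer (l.norm_U hg) (l.memU hd s))
    rcases l.partner with ⟨f, hf, rfl⟩ | ⟨L', sp⟩
    · exact l.U_le_J.trans (by rw [← hf.bau_eq hd s, tb])
    obtain ⟨U, A, P, P', k⟩ := h d hd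
    have := le_inf (l.U_le_B.trans s) ((U_le_core 2 L).trans l.core_cent)
    rcases k.one _ _ _ _ (sp.pa hd s) with e | e <;> rw [e] at this
    exacts [this.trans (le_thompson k.max), this.trans (le_thompson k.symm.max)]

theorem lst_of [IsSimpleGroup G] (th : TH G) (h : ∀ d : G, Dd d → ∃ U A P P', EB d U A P P') (hd : Dd d) : Lst G := by
  obtain ⟨U, A, P, P', k⟩ := h d hd
  obtain ⟨S, hS⟩ := hd.syl.exists_sylow_top
  obtain ⟨c16, c3⟩ := k.sixteen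
  have sc : IsStronglyClosed 𝐉[2](Sy d) (Sy d) := ⟨thompson_le 2 _, fun x hx g hg => Invol.fusion_closed
    ⟨le_top, Sy_pg d, hd.syl.not_dvd_relIndex⟩ 𝐉[2](Sy d) (fun s hs a ha => conj_mem_of_mem_normalizer
      ((le_normalizer.trans (norm_thompson 2 _)) hs) ha) (fun Q hQ z g hg _ _ a ha ha' => ?_) (thompson_le 2 _ hx) hx hg⟩
  · rcases Agent.S1170.result S 𝐉[2](Sy d) (hS ▸ sc) (fun c => k.hb.nc fun a ha u hu => congrArg Subtype.val (c.is_comm.comm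
      ⟨u, le_thompson k.max ⟨k.pa.py.l.lU hu, k.hb.ab hu⟩⟩ ⟨a, le_thompson k.symm.max ⟨k.pa.py.l.lA ha, k.hb.ab' ha⟩⟩))
      (commutator_le.2 fun a _ b _ => mem_center_iff.2 fun g => Subtype.ext (k.cl (commutator_mem_commutator a.2 b.2) g g.2)) with
      ⟨F, _, _, q, ⟨e⟩⟩ | ⟨F, _, _, q, h1, h2, h3, e⟩ | e | ⟨F, _, _, _, ⟨e⟩⟩ | ⟨F, _, _, _, h4, e⟩ | ⟨⟨e⟩⟩
    · have c := Classical.card_PSL_two (F := F)
      obtain ⟨m, hm⟩ := c16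
      obtain ⟨j, hj⟩ : ∃ j, Fintype.card F = 2 * j + 1 := ⟨Fintype.card F / 2, by omega⟩
      rw [← Nat.card_congr e.toEquiv, hm, hj, Nat.add_sub_cancel, Nat.gcd_mul_right_right, show (2 * j + 1) ^ 2 - 1 =
        4 * (j * (j + 1)) by rw [Nat.sub_eq_iff_eq_add (Nat.one_le_pow _ _ (by omega))]; ring] at c
      obtain ⟨i, rfl | rfl⟩ : ∃ i, j = 8 * i + 3 ∨ j = 8 * i + 4 := ⟨j / 8, by omega⟩ <;> ring_nf at c <;> omega
    · obtain ⟨p, _⟩ := CharP.exists F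
      obtain ⟨m, hp, hm⟩ := FiniteField.card F p
      obtain rfl := (Nat.prime_dvd_prime_iff_eq Nat.prime_two hp).1 (Nat.prime_two.dvd_of_dvd_pow
        (hm ▸ h1 ▸ dvd_pow h2.two_dvd two_ne_zero))
      obtain ⟨n, -, rfl⟩ := (Nat.dvd_prime_pow hp).1 (hm ▸ h1 ▸ dvd_pow_self q two_ne_zero)
      exact .inr (.inr (.inl ⟨F, _, _, n, (Nat.pow_le_pow_iff_right one_lt_two).1 h3, h1, e⟩))
    · exact absurd c3 (CIT.not_three_dvd_suzuki e)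
    · obtain ⟨n, -, hn⟩ := FiniteField.card F 2
      refine .inl ⟨F, _, _, n, by_contra fun l => ?_, hn, .inr (.inl ⟨e⟩)⟩
      have c := Classical.card_PSL_fin (F := F) 3 (by norm_num)
      rw [← Nat.card_congr e.toEquiv, hn, show (n : ℕ) = 1 by have := n.pos; omega] at c
      simp [Fin.prod_univ_three] at c
      omega
    · obtain ⟨n, -, hn⟩ := FiniteField.card F 2
      exact .inl ⟨F, _, _, n, (Nat.pow_le_pow_iff_right one_lt_two).1 (hn ▸ h4), hn, .inr (.inr e)⟩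
    · rw [Nat.card_congr e.toEquiv, nat_card_alternatingGroup, Nat.card_eq_fintype_card, Fintype.card_fin] at c16
      exact absurd c16 (by decide)
  have dQ : d ∈ Q := z ⟨hd.mem, mem_cent hQ.1⟩
  have ec := conj_mem_of_mem_normalizer (normalizer_le_normalizer_centralizer Q hg) (mem_cent hQ.1)
  have l : Q ⊓ 𝐉[2](Sy d) ≤ cj[g] (Q ⊓ 𝐉[2](Sy d)) := by
    rw [cj_inf, cj_eq_self hg, cj_thompson, cj_Sy]
    exact fun x hx => ⟨hx.1, (k.cJ (hd.cj g) (rlJ th h hd (hd.cj g) (hQ.1 (conj_mem_of_mem_normalizer hg dQ)))).2 x hx.2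
      (ec x hx.1).symm⟩
  exact ((eq_of_le_of_card_le l (card_cj g _).le).ge (conj_mem_cj g ⟨ha, ha'⟩)).2

theorem Co.e1 (h : Co K t) (m : Pa t U A P P') (b : Nat.card U ≠ 4) (k : K ≤ Yd t)
    (o : ∀ U₁ A₁ P₁ P₁', Pa t U₁ A₁ P₁ P₁' → U₁ = U ∨ U₁ = A) : Cc K t := by
  have eb : EB t U A P P' := ⟨m, b, fun x c c' => h.cen' k fun U₁ A₁ P₁ P₁' m₁ => by
    rcases o _ _ _ _ m₁ with rfl | rfl
    exacts [(m.uniq m₁).2.1 ▸ c, (m.symm.uniq m₁).2.1 ▸ c'], o⟩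
  have T : ∀ e, Dd e → Sy e = Sy t → e ∈ Sy t ⊓ 𝐂(U) ⊓ 𝐂(A) := fun e he l =>
    ⟨⟨l ▸ he.mem, mem_cent (m.py.l.lU.trans l.ge)⟩, mem_cent (m.py.l.lA.trans l.ge)⟩
  have mt := eb.memK h (T t h.dd rfl)
  refine ⟨mt, fun e he => ?_, ?_⟩
  · obtain ⟨g, l⟩ := he.exists_Sy_eq h.dd
    exact (eb.conj (T t h.dd rfl) (T _ (he.cj g) l) h.dd (he.cj g)).trans (isConj_iff.2 ⟨g, rfl⟩).symm
  obtain rfl := h.eq_top mt
  haveI := h.simple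
  haveI := (topEquiv (G := G)).symm.isSimpleGroup
  refine (lst_of m.th (fun d hd => ?_) h.dd).of_equiv topEquiv
  obtain ⟨g, l⟩ := h.dd.exists_Sy_eq hd
  exact ⟨_, _, _, _, (eb.cj g).tr hd l.symm⟩

end CF.Bm
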