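import Cfsg.Agent.Holt.R1
import Cfsg.Agent.Holt.Fin

/-! Holt's theorem for an involution with `2`-closed centralizer. -/

set_option autoImplicit false
set_option linter.style.haveILetI false

namespace CF.Bm.Hw
open MulAction Subgroup Cfsg CF.BG CF.Bender CF.ZD CF.Ab2 CF.Sig CF.Perm CF.Holt CF.Invol Equiv

universe u
variable {G : Type u} [Group G] [Finite G] {K M : Subgroup G} {t : G}

theorem not_alt {Ω : Type u} [MulAction G Ω] [Finite Ω] (h : HT Ω K t) (h7 : 7 ≤ Nat.card Ω)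
    (pc : ∀ x y : G, x * x = 1 → y * y = 1 → t * x = x * t → t * y = y * t → ∃ k, (x * y) ^ 2 ^ k = 1) :
    ¬ Alt Ω K := fun l => by
  classical
  letI := Fintype.ofFinite Ω
  obtain ⟨p, -, hp⟩ := h.fix
  have tt : ∀ a : Ω, t • t • a = a := fun a => by rw [← mul_smul, h.iv.sq, one_smul]
  have ex : ∀ s : Finset Ω, s.card < 7 → ∃ a, a ∉ s := fun s hs => by
    by_contra c
    push Not at c
    rw [Finset.eq_univ_of_forall c, Finset.card_univ, ← Nat.card_eq_fintype_card] at hs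
    omega
  have key : ∀ a b : Ω, a ≠ p → b ≠ p → a ≠ b → b ≠ t • a → ∃ y : G, y * y = 1 ∧ t * y = y * t ∧
      y • a = b ∧ y • b = a ∧ ∀ c, c ≠ a → c ≠ b → c ≠ t • a → c ≠ t • b → y • c = c := by
    intro a b ha hb ab ba
    have n1 : a ≠ t • a := fun e => ha (hp a e.symm)
    have n2 : b ≠ t • b := fun e => hb (hp b e.symm)
    have n3 : a ≠ t • b := fun e => ba (by rw [e, tt])
    have n4 : t • a ≠ t • b := fun e => ab (smul_left_cancel t e)
    have cm : Commute (swap a b) (swap (t • a) (t • b)) :=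
      (Perm.disjoint_swap_swap (by simp [*])).commute
    obtain ⟨y, -, hy⟩ := l (swap a b * swap (t • a) (t • b)) (by simp [ab, n4])
    have hy' : toPermHom G Ω y = swap a b * swap (t • a) (t • b) := Equiv.ext hy
    have inj : Function.Injective (toPermHom G Ω) := (injective_iff_map_eq_one _).2 fun g hg =>
      h.faith g (Equiv.congr_fun hg)
    refine ⟨y, inj ?_, inj ?_, ?_, ?_, fun c c1 c2 c3 c4 => ?_⟩
    · rw [map_mul, hy', map_one, ← sq, cm.mul_pow, sq, sq, swap_mul_self, swap_mul_self, one_mul]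
    · rw [map_mul, map_mul, hy', ← mul_assoc, mul_swap_eq_swap_mul (toPermHom G Ω t), mul_assoc,
        mul_swap_eq_swap_mul (toPermHom G Ω t), ← mul_assoc, cm.eq]
      simp only [toPermHom_apply, toPerm_apply, tt]
    · rw [hy, Perm.mul_apply, swap_apply_of_ne_of_ne n1 n3, swap_apply_left]
    · rw [hy, Perm.mul_apply, swap_apply_of_ne_of_ne ba n2, swap_apply_right]
    · rw [hy, Perm.mul_apply, swap_apply_of_ne_of_ne c3 c4, swap_apply_of_ne_of_ne c1 c2]
  obtain ⟨a, ha⟩ := ex {p} (by simp)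
  obtain ⟨b, hb⟩ := ex {p, a, t • a} (Finset.card_le_three.trans_lt (by omega))
  obtain ⟨c, hc⟩ := ex {p, a, t • a, b, t • b} (Finset.card_le_five.trans_lt (by omega))
  simp only [Finset.mem_insert, Finset.mem_singleton, not_or] at ha hb hc
  obtain ⟨x, x1, x2, x3, x4, x5⟩ := key a b ha hb.1 (Ne.symm hb.2.1) hb.2.2
  obtain ⟨y, y1, y2, y3, y4, y5⟩ := key b c hb.1 hc.1 (Ne.symm hc.2.2.2.1) hc.2.2.2.2
  have e1 : (x * y) • a = b := by
    rw [mul_smul, y5 a (Ne.symm hb.2.1) (Ne.symm hc.2.1) (fun e => hb.2.2 (by rw [e, tt]))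
      (fun e => hc.2.2.1 (by rw [e, tt])), x3]
  have e2 : (x * y) • b = c := by rw [mul_smul, y3, x5 c hc.2.1 hc.2.2.2.1 hc.2.2.1 hc.2.2.2.2]
  have e3 : (x * y) ^ 3 ∈ stabilizer G a := by
    rw [mem_stabilizer_iff, pow_succ, pow_two, mul_smul, mul_smul, e1, e2, mul_smul, y4, x4]
  obtain ⟨k, hk⟩ := pc x y x1 y1 x2 y2
  obtain ⟨m, hm⟩ := exists_pow_eq_self_of_coprime (x := x * y) (n := 3)
    ((Nat.Coprime.pow_right k (by norm_num)).coprime_dvd_right (orderOf_dvd_of_pow_eq_one hk))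
  exact hb.2.1 (e1.symm.trans (hm ▸ pow_mem e3 m : x * y ∈ stabilizer G a))

theorem conj_of {Ω : Type u} [MulAction G Ω] (h : HT Ω K t) (k : SEx Ω K) {s : G} (hs : Iv s)
    (m : s * t ∈ K) : IsConj t s := by
  haveI := normalIn_top.1 h.nrm
  obtain ⟨p, hp, up⟩ := h.fix
  obtain ⟨q, hq⟩ : ∃ q : Ω, s • q ≠ q := by
    by_contra c
    push Not at c
    exact hs.ne (h.faith s c)
  obtain ⟨g, rfl⟩ := h.tr p q
  have i := h.iv.conj g
  rcases Nat.even_or_odd (orderOf (s * (g * t * g⁻¹))) with e | e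
  · obtain ⟨w, hw, w2, w3, w4⟩ := exists_central_invol hs.sq i.sq e
    have : s * (g * t * g⁻¹) ∈ K := by
      rw [← QuotientGroup.eq_one_iff] at m ⊢
      have : ∀ x : G ⧸ K, x = 1 ∨ x * t = 1 := fun x => by
        obtain ⟨x, rfl⟩ := QuotientGroup.mk_surjective x
        simpa only [← QuotientGroup.eq_one_iff, QuotientGroup.mk_mul] using h.gen x
      rcases this g with a | a
      · simpa [a] using m
      · simpa [eq_inv_of_mul_eq_one_left a] using m
    obtain ⟨r, hr, ur⟩ := k w (zpowers_le.2 this hw) (iv_iff.2 w2)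
    have a : (g * t * g⁻¹) • r = r := ur _ (by
      change w • _ = _; rw [← mul_smul, w4.eq, mul_smul, hr])
    have b : s • r = r := ur _ (by change w • _ = _; rw [← mul_smul, w3.eq, mul_smul, hr])
    exact absurd (by rw [← up _ (Co.fix_inv a), smul_inv_smul, b]) hq
  · exact (isConj_iff.2 ⟨g, rfl⟩).trans (isConj_of_odd hs.sq i.sq e).symm

theorem mem_of {Ω : Type u} [MulAction G Ω] (h : HT Ω K t) (k : SEx Ω K) : t ∈ K := by
  classical
  by_contra n
  have N := normalIn_top.1 h.nrm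
  have N' : ∀ g e, g * e * g⁻¹ ∈ K → e ∈ K := fun g e m => by simpa [mul_assoc] using N.conj_mem _ m g⁻¹
  obtain ⟨z, hz, i⟩ := exists_iv (mt od_iff.1 h.ns.not_od)
  have c1 : ∀ e, e ∈ orbit (ConjAct G) t ↔ Iv e ∧ e ∉ K := fun e => by
    rw [ConjAct.mem_orbit_conjAct, isConj_comm]
    refine ⟨fun c => ⟨cl_iv h.iv c, fun m => n ?_⟩, fun c =>
      conj_of h k c.1 ((h.gen e).resolve_left c.2)⟩
    obtain ⟨g, rfl⟩ := isConj_iff.1 c
    exact N' _ _ m
  let f : G → G := fun e => if z * e = e * z then e * z else z * e * z⁻¹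
  have f1 : ∀ e ∈ orbit (ConjAct G) t, f e ∈ orbit (ConjAct G) t := fun e he => by
    rw [c1] at he ⊢
    dsimp only [f]
    split_ifs with c
    · have : e * z ∉ K := fun m => he.2 ((K.mul_mem_cancel_right hz).1 m)
      exact ⟨⟨fun w => this (w ▸ one_mem K), by
        rw [mul_assoc, ← mul_assoc z, c, mul_assoc, i.sq, mul_one, he.1.sq]⟩, this⟩
    · exact ⟨he.1.conj z, fun m => he.2 (N' _ _ m)⟩
  have f2 : ∀ e, f (f e) = e := fun e => by
    by_cases c : z * e = e * z
    · have : z * (e * z) = e * z * z := by rw [← mul_assoc, c]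
      simp only [f, if_pos c, if_pos this]
      rw [mul_assoc, i.sq, mul_one]
    · have : ¬ z * (z * e * z⁻¹) = z * e * z⁻¹ * z := fun w => c (by
        rw [inv_mul_cancel_right, mul_right_inj, mul_inv_eq_iff_eq_mul] at w; exact w)
      simp only [f, if_neg c, if_neg this]
      rw [i.inv, ← mul_assoc, ← mul_assoc, i.sq, one_mul, mul_assoc, i.sq, mul_one]
  have f3 : ∀ e, f e ≠ e := fun e => by
    dsimp only [f]
    split_ifs with c
    · simpa using i.ne
    · rwa [Ne, mul_inv_eq_iff_eq_mul]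
  letI := Fintype.ofFinite (orbit (ConjAct G) t)
  let σ : Perm (orbit (ConjAct G) t) := Function.Involutive.toPerm (fun e => ⟨f e, f1 e e.2⟩)
    fun e => Subtype.ext (f2 e)
  have d := Perm.two_dvd_card_support (σ := σ) (Equiv.ext fun e => Subtype.ext (f2 e))
  rw [Finset.eq_univ_of_forall (s := σ.support) fun e => Perm.mem_support.2 fun w =>
    f3 e (congrArg Subtype.val w), Finset.card_univ, ← Nat.card_eq_fintype_card,
    Nat.card_coe_set_eq, ← index_stabilizer, ← index_comap_of_surjective _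
      (f := (ConjAct.toConjAct (G := G)).toMonoidHom) ConjAct.toConjAct.surjective] at d
  replace d : 2 ∣ (𝐂₁ t).index := centralizer_eq_comap_stabilizer t ▸ d
  obtain ⟨S, hS, c⟩ := h.cen
  exact hS.not_dvd p2 (relIndex_top_right S ▸ d.trans (index_dvd_of_le fun s hs =>
    mem_cent1.2 (mem_cent.1 c s hs)))

theorem main (ns : NS K) (nrm : K.Normal) (gen : ∀ g, g ∈ K ∨ g * t ∈ K) (cen : 𝐂 K = ⊥) (c : ZC t M)
    (pc : ∀ x y : G, x * x = 1 → y * y = 1 → t * x = x * t → t * y = y * t → ∃ k, (x * y) ^ 2 ^ k = 1) :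
    t ∈ K ∧ (∀ s, Iv s → IsConj t s) ∧ IsBender K := by
  have fa : ∀ g : G, (∀ p : G ⧸ M, g • p = p) → g = 1 := fun g hg => by
    have l : ∀ x ∈ (toPermHom G (G ⧸ M)).ker, x ∈ M := fun x hx =>
      smul_pt.1 (Equiv.congr_fun hx (pt M))
    rcases ns.le_or_cent (N := (toPermHom G (G ⧸ M)).ker) le_normalizer_of_normal
      le_normalizer_of_normal with e | e
    · exact (c.ne (eq_top_iff.2 fun x _ => (gen x).elim (fun a => l x (e a)) fun a =>
        (M.mul_mem_cancel_right c.mem).1 (l _ (e a)))).elim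
    · exact cen.le (le_centralizer_iff.1 e (Equiv.ext hg))
  have uq : ∀ q : G ⧸ M, t • q = q → q = pt M := c.uniq cl_self (smul_pt.2 c.mem)
  obtain ⟨p, hp⟩ := c.nt
  have h : HT (G ⧸ M) K t := ⟨ns, normalIn_top.2 nrm, gen, fa, c.iv, c.cen, quot_trans, ⟨_, _, hp⟩, _,
    smul_pt.2 c.mem, uq⟩
  have k := (holt _ G (G ⧸ M) K t (Nat.lt_succ_self _) h).resolve_right fun l => not_alt h l.1 pc l.2
  have m := mem_of h k
  obtain rfl : K = ⊤ := eq_top_iff.2 fun x _ => (gen x).elim id (K.mul_mem_cancel_right m).1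
  haveI := ns.simple
  haveI : IsSimpleGroup G := topEquiv.symm.isSimpleGroup
  refine ⟨m, fun s hs => conj_of h k hs trivial, (se_simple part2 (se_top c.ne c.mem c.iv
    fun t ht i g hg => ?_)).1.of_equiv topEquiv⟩
  exact inv_mem_iff.1 (smul_pt.1 ((k t trivial i).unique (Co.fix_inv (smul_pt.2 hg)) (smul_pt.2 ht)))

end CF.Bm.Hw
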