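import Cfsg.Agent.Bm.C1
import Cfsg.Agent.Bm.E
import Cfsg.Agent.Bm.G
import Cfsg.Agent.Bm.P2
import Cfsg.Agent.Bm.M1
import Cfsg.Agent.Bm.H2

/-! Baumann's theorem: the almost simple case. -/

set_option autoImplicit false
set_option linter.unusedSectionVars false

namespace CF.Bm

open Cfsg Subgroup CF.Loc CF.FF CF.GC
open CF.PLocal (maxAb thompson_le le_thompson upT)
open scoped commutatorElement MatrixGroups

universe u
variable {G : Type u} [Group G] [Finite G]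
variable {A B K L L' N P P' U : Subgroup G} {d e g t : G}

theorem Co.le_of_norm (h : Co K t) (n : K ≤ 𝐍(N)) (ne : N ≠ ⊥) : K ≤ N := by
  have := h.simple
  have := h.nrm
  have : (N.subgroupOf K).Normal := (normal_subgroupOf_iff_le_normalizer_inf.2 (le_normalizer_inf n le_normalizer))
  rcases this.eq_bot_or_eq_top with e | e
  · exact absurd (eq_bot_iff.2 ((commutator_eq_bot_iff_le_centralizer.1 (eq_bot_iff.2 ((le_inf
      (commutator_le_left_of_le_normalizer n) (commutator_le_right _ _)).trans (subgroupOf_eq_bot.1 e).le_bot))).trans h.cen.le)) ne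
  · exact subgroupOf_eq_top.1 e

theorem cj_le_Wd (g d : G) : cj[g] (Wd d) ≤ Wd (g * d * g⁻¹) := by
  rw [Wd, cj_sup, cj_omegaOneCenter, cj_baumann, cj_Sy]
  refine sup_le_sup_left (cj_le_iff.2 (sSup_le ?_)) _
  rintro _ ⟨L, hL, rfl⟩
  exact cj_le_iff.1 (le_sSup ⟨_, by simpa only [cj_baumann, cj_Sy] using hL.cj g, cj_Um g L⟩)

theorem cj_Wd (g d : G) : Wd (g * d * g⁻¹) = cj[g] (Wd d) :=
  le_antisymm (le_cj_iff.2 ((cj_le_Wd _ _).trans (by simp [mul_assoc]))) (cj_le_Wd g d)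

theorem cj_le_Yd (g d : G) : cj[g] (Yd d) ≤ Yd (g * d * g⁻¹) := by
  refine cj_le_iff.2 (sSup_le ?_)
  rintro _ ⟨U, A, P, P', m, rfl⟩
  exact cj_le_iff.1 (le_sSup ⟨_, _, _, _, m.cj g, cj_pResidualOf g P⟩)

theorem cj_Yd (g d : G) : Yd (g * d * g⁻¹) = cj[g] (Yd d) :=
  le_antisymm (le_cj_iff.2 ((cj_le_Yd _ _).trans (by simp [mul_assoc]))) (cj_le_Yd g d)

/-- relations given by an equivariant map -/
theorem rl_of (Φ : G → Subgroup G) (c : ∀ g d, Φ (g * d * g⁻¹) = cj[g] (Φ d))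
    (b : ∀ d e, Dd d → Dd e → 𝐁[2](Sy d) = 𝐁[2](Sy e) → Φ d ≤ Φ e)
    (k : ∀ B L d, Lb B L → Dd d → B ≤ Sy d → 𝐑[2](L) ≤ 𝐍(Φ d)) : Rl fun d e => Φ d = Φ e :=
  ⟨fun g d e _ _ _ r => by rw [c, c, r], fun _ _ _ _ _ r => r.symm, fun _ _ _ _ _ _ _ _ _ r r' => r.trans r',
    fun d e hd he r => le_antisymm (b d e hd he r) (b e d he hd r.symm), fun B L d h hd _ l x hx => by
      rw [c, cj_eq_self (h.sup.ge.trans (sup_le (k B L d h hd l) fun y hy => cj_eq_self_iff.1 (by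
        rw [← c, ← comm_of_mem (l hy), mul_inv_cancel_right])) hx)]⟩

theorem Lb.or_eq (h : Lb B L) (hd : Dd d) (l : B ≤ Sy d) : B = 𝐁[2](Sy d) ∨ ∃ L', SP B L L' :=
  h.partner.imp_left fun ⟨_, hf, e⟩ => e.trans (hf.bau_eq hd (e ▸ l)).symm

theorem Lb.le_Wd (h : Lb 𝐁[2](Sy d) L) : Um L ≤ Wd d := le_sup_of_le_right (le_sSup ⟨L, h, rfl⟩)

theorem rl_Wd (ns : ∀ B L L' : Subgroup G, ¬ SP B L L') : Rl fun d e : G => Wd d = Wd e := by
  refine rl_of Wd cj_Wd (fun d e _ _ r => by rw [Wd, Wd, r]) fun B L d h hd l x hx => mem_normalizer_of_cj_le ?_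
  obtain rfl := (h.or_eq hd l).resolve_right fun ⟨L', s⟩ => ns _ _ _ s
  have k : ∀ W ≤ Wd d, ⁅W, 𝐑[2](L)⁆ ≤ Um L → W ≤ cj[x⁻¹] (Wd d) := fun W l c => cj_le_iff.1 (cj_le_iff_forall.2 fun w hw => by
    have := mul_mem (inv_mem (c.trans h.le_Wd (commutator_mem_commutator hw hx))) (l hw)
    rwa [commutatorElement_inv, commutatorElement_def, inv_mul_cancel_right] at this)
  refine cj_le_iff.2 (sup_le (k _ le_sup_left (commutator_mono h.omega_le le_rfl)) (sSup_le ?_))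
  rintro _ ⟨L', h', rfl⟩
  exact k _ h'.le_Wd (h.family hd h' (ns _))

theorem Wd_le (d : G) : Wd d ≤ Sy d :=
  (sup_le (omegaOneCenter_le _ _) (sSup_le (by rintro _ ⟨_, h, rfl⟩; exact h.Um_le_B))).trans (baumann_le 2 _)

theorem Dd.mem_Wd (hd : Dd d) : d ∈ Wd d :=
  mem_sup_left (hd.mem_omega ⟨hd.mem, mem_cent ((omegaOneCenter_le _ _).trans (thompson_le 2 _))⟩ (baumann_le 2 _))

theorem Pa.le_Yd (m : Pa d U A P P') : 𝐑[2](P) ≤ Yd d := le_sSup ⟨U, A, P, P', m, rfl⟩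

theorem rl_Yd : Rl fun d e : G => Yd d = Yd e := by
  refine rl_of Yd cj_Yd (fun d e _ he r => sSup_le ?_) fun B L d h hd l => ?_
  · rintro _ ⟨U, A, P, P', m, rfl⟩
    exact (m.tr he ((m.gy.rc m.py).2.2.trans (r.le.trans (baumann_le 2 _)))).le_Yd
  have k : (∃ L', SP B L L') → 𝐑[2](L) ≤ 𝐍(Yd d) := fun ⟨_, s⟩ => s.res.ge.trans ((s.pa hd l).le_Yd.trans le_normalizer)
  refine (h.or_eq hd l).elim ?_ k
  rintro rfl
  refine (h.caseC hd).elim k fun c x hx => mem_normalizer_of_cj_le (cj_le_iff.2 (sSup_le ?_))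
  rintro _ ⟨U, A, P, P', m, rfl⟩
  exact cj_le_iff.1 ((cj_eq_self (normalizer_le_normalizer_pResidualOf 2 P (c _ _ _ _ m hx).2)).le.trans m.le_Yd)

theorem Pa.res_ne (m : Pa d U A P P') (l : 𝐑[2](P) ≤ N) : N ≠ ⊥ := fun e =>
  m.py.r.hb.nc ((m.py.l.hb.le_res'.trans (l.trans e.le)).trans bot_le)

theorem Co.same (h : Co K t) (m : Pa t U A P P') (k : K ≤ Yd t) {U₁ A₁ P₁ P₁' : Subgroup G} (m₁ : Pa t U₁ A₁ P₁ P₁') :
    U₁ ⊓ A₁ = U ⊓ A := by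
  let Γ := sSup {K | ∃ U₁ A₁ P₁ P₁', Pa t U₁ A₁ P₁ P₁' ∧ U₁ ⊓ A₁ = U ⊓ A ∧ K = 𝐑[2](P₁)}
  have c : ∀ {U₁ A₁ P₁ P₁'}, Pa t U₁ A₁ P₁ P₁' → U₁ ⊓ A₁ ≠ U ⊓ A → P₁ ≤ 𝐂(Γ) := fun m₁ n =>
    le_centralizer_comm.1 (sSup_le fun _ ⟨_, _, _, _, m₂, e, e'⟩ => e'.le.trans ((pResidualOf_le _ _).trans (le_sup_left.trans
      (((m.gy.dich m₁.py m₂.py).resolve_left fun e'' => n (e''.symm.trans e)).trans (centralizer_anti le_sup_left)))))
  have l := h.le_of_norm (N := Γ) (k.trans (sSup_le ?_)) (m.res_ne (le_sSup ⟨U, A, P, P', m, rfl, rfl⟩))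
  · exact by_contra fun n => m₁.res_ne (pResidualOf_le _ _) (eq_bot_iff.2 ((c m₁ n).trans ((centralizer_anti l).trans h.cen.le)))
  rintro _ ⟨U₂, A₂, P₂, P₂', m₂, rfl⟩
  by_cases n : U₂ ⊓ A₂ = U ⊓ A
  · exact (le_sSup ⟨U₂, A₂, P₂, P₂', m₂, n, rfl⟩ : _ ≤ Γ).trans le_normalizer
  · exact (pResidualOf_le _ _).trans ((c m₂ n).trans (centralizer_le_normalizer _))

theorem Co.cc (h : Co K t) : Cc K t := by
  refine h.th.elim (fun th => ?_) id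
  by_cases ns : ∀ B L L' : Subgroup G, ¬ SP B L L'
  · refine h.hw Wd (fun g d _ => cj_Wd g d) (fun d e hd he c => (rl_Wd ns).all th hd he c) fun n => ?_
    have l := h.le_of_norm (le_top.trans n.ge) fun e => h.dd.ne (mem_bot.1 (e.le h.dd.mem_Wd))
    have := h.simple
    have p : IsPGroup 2 K := (Sy_pg t).to_le (l.trans (Wd_le t))
    exact (nontrivial_iff_ne_bot K).1 inferInstance (eq_bot_iff.2 (le_of_le_commutator_sup p le_rfl le_rfl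
      (le_normalizer_iff_cj.2 fun g _ => (cj_bot g).le) (h.perf.ge.trans le_sup_left)))
  push Not at ns
  obtain ⟨B, L, L', s⟩ := ns
  obtain ⟨d, hd, -, l⟩ := s.l.dd
  obtain ⟨g, e⟩ := hd.exists_Sy_eq h.dd
  have m := ((s.pa hd l).cj g).tr h.dd ((baumann_le 2 _).trans (inf_le_left.trans e.le))
  by_cases n : 𝐍(Yd t) = ⊤
  swap
  · exact h.hw Yd (fun g d _ => cj_Yd g d) (fun d e hd he c => rl_Yd.all th hd he c) n
  have k := h.le_of_norm (le_top.trans n.ge) (m.res_ne m.le_Yd)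
  by_cases b : ∀ U₁ A₁ P₁ P₁', Pa t U₁ A₁ P₁ P₁' → Nat.card U₁ = 4
  · exact h.e2 m k fun _ _ _ _ m₁ => ⟨b _ _ _ _ m₁, h.same m k m₁⟩
  push Not at b
  obtain ⟨U, A, P, P', m', b⟩ := b
  exact h.e1 m' b k fun _ _ _ _ m₁ => (m'.gy.big' m'.py b m₁.py (h.same m' k m₁)).imp And.left And.left

end CF.Bm
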