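import Cfsg.Agent.Bm.A3

/-! Baumann's theorem: failure of factorization modules with a `2`-closed vector stabilizer. -/

set_option autoImplicit false
set_option linter.unusedSectionVars false

namespace CF.Bm

open Cfsg Subgroup CF.Loc CF.FF CF.GC Equiv
open CF.PLocal (maxAb thompson_le le_thompson upT)
open scoped commutatorElement MatrixGroups

universe u
variable {G : Type u} [Group G] [Finite G]
variable {A A' B K L L' M P Q T V X : Subgroup G} {a b c d e g r s t : G}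

/-- a faithful module in which the stabilizer of `e` normalizes the Sylow subgroup `T` -/
structure FD (V P T : Subgroup G) (e : G) : Prop where
  ea : IsElementaryAbelian 2 V
  norm : P ≤ 𝐍(V)
  faith : P ⊓ 𝐂(V) = ⊥
  syl : IsSyl 2 T P
  core : 𝐎[2](P) = ⊥
  mem : e ∈ V
  fix : e ∈ 𝐂(T)
  cen : P ⊓ 𝐂(zpowers e) ≤ 𝐍(T)

/-- commuting partners -/
def Cm (V L L' : Subgroup G) : Prop := L' ≤ 𝐂(L) ∧ ⁅V, L'⁆ ≤ 𝐂(L)

omit [Finite G] in
theorem Cm.symm (h : Cm V L L') : Cm V L' L :=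
  ⟨le_centralizer_iff.1 h.1, commutator_eq_bot_iff_le_centralizer.1 (by
    rw [commutator_comm V]
    exact commutator_commutator_eq_bot_of_rotate (commutator_eq_bot_iff_le_centralizer.2 h.2)
      (by rw [commutator_eq_bot_iff_le_centralizer.2 h.1, commutator_bot_left]))⟩

theorem natP_not_norm (n : NatP V L A) : ¬ L ≤ 𝐍(A) := let ⟨_, _, _, _, _, n, hi⟩ := n; n.not_le_norm hi

theorem natP_le (n : NatP V L A) : A ≤ L := let ⟨_, _, _, _, _, n, _⟩ := n; n.le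

theorem natP_cj (n : NatP V L A) (hg : g ∈ L) : NatP V L (cj[g] A) :=
  let ⟨F, _, k, _, _, n, hi⟩ := n
  ⟨F, _, k, _, _, n.cj' hg, fun x hx => NatOn.inj_cj hi g x ((cj_eq_self_of_mem hg).ge hx)⟩

theorem natP_exists (n : NatP V L A) : ∃ w ∈ L, A ⊔ cj[w] A = L :=
  let ⟨_, _, _, _, _, n, hi⟩ := n; let ⟨w, hw, w0⟩ := n.exists_w; ⟨w, hw, n.sup_cj hi hw w0⟩

theorem natP_le_of_pg (n : NatP V L A) (hX : IsPGroup 2 X) (l : A ≤ X) (l' : X ≤ L) : X ≤ A :=
  let ⟨_, _, _, _, _, n, hi⟩ := n; n.le_of_isPGroup hi hX l l'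

theorem natP_not_le (n : NatP V L A) (hX : IsPGroup 2 X) (l : A ≤ X) : ¬ L ≤ 𝐍(X) := fun c =>
  natP_not_norm n (by
    rw [le_antisymm (le_inf l (natP_le n)) (natP_le_of_pg n (hX.to_le inf_le_left) (le_inf l (natP_le n)) inf_le_right)]
    exact le_normalizer_inf c le_normalizer)

theorem cm_sup (n : NatP V L' A') (hV : L' ≤ 𝐍(V)) (h : ∀ x ∈ L', Cm V L (cj[x] A')) : Cm V L L' := by
  obtain ⟨w, hw, e⟩ := natP_exists n
  have h3 := h 1 (one_mem _)
  have h4 := h w hw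
  rw [cj_one] at h3
  have h5 := le_inf (commutator_le_left_of_le_normalizer ((natP_le n).trans hV)) h3.2
  have h6 := le_inf (commutator_le_left_of_le_normalizer ((cj_le_of_mem hw (natP_le n)).trans hV)) h4.2
  rw [← e]
  exact ⟨sup_le h3.1 h4.1, (commutator_sup_right_le (le_normalizer_of_commutator_le inf_le_left h5)
    (le_normalizer_of_commutator_le inf_le_left h6) h5 h6).trans inf_le_right⟩

theorem swap_three : ∀ σ τ : Perm (Fin 3), σ.IsSwap → τ.IsSwap → σ ≠ τ → ∀ i : Fin 2,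
    swap 0 i.succ = σ ∨ swap 0 i.succ = τ ∨ swap 0 i.succ = σ * τ * σ⁻¹ := by
  rintro _ _ ⟨a, b, h, rfl⟩ ⟨c, d, h', rfl⟩
  revert a b c d
  decide

namespace FD
variable (h : FD V P T e)
include h

protected theorem cj (hg : g ∈ P) : FD V P (cj[g] T) (g * e * g⁻¹) :=
  ⟨h.ea, h.norm, h.faith, h.syl.cj_of_mem hg, h.core, conj_mem_of_mem_normalizer (h.norm hg) h.mem,
    by rw [← cj_centralizer]; exact conj_mem_cj g h.fix, by
    have := cj_mono g h.cen
    rwa [cj_inf, cj_eq_self_of_mem hg, cj_centralizer, cj_zpowers, cj_normalizer] at this⟩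

theorem cent : P ⊓ 𝐂(V ⊓ 𝐂(T)) ≤ 𝐍(T) :=
  (inf_le_inf_left _ (centralizer_anti (zpowers_le.2 (show e ∈ V ⊓ 𝐂(T) from ⟨h.mem, h.fix⟩)))).trans h.cen

theorem exists_nat (hA : Off 2 V P A) (l : A ≤ T) : ∃ g ∈ P, ∃ L ≤ P, NatP V L (cj[g] A) := by
  obtain ⟨W, hW⟩ : ∃ W, W = sSup {B | B ≤ T ∧ ∃ g ∈ P, B = cj[g] A} := ⟨_, rfl⟩
  have WT : W ≤ T := hW ▸ sSup_le fun _ c => c.1
  have lW : ∀ g ∈ P, cj[g] A ≤ T → cj[g] A ≤ W := fun g hg c => hW ▸ le_sSup ⟨c, g, hg, rfl⟩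
  have nW : ∀ g ∈ P, cj[g] W ≤ T → g ∈ 𝐍(W) := fun g hg c => mem_normalizer_of_cj_le (by
    have k : ∀ B ≤ W, cj[g] B ≤ T := fun B hB => (cj_mono g hB).trans c
    conv_lhs => rw [hW]
    refine cj_le_iff.2 (sSup_le ?_)
    rintro _ ⟨c, x, hx, rfl⟩
    rw [← cj_le_iff, ← cj_mul]
    exact lW _ (mul_mem hg hx) (by rw [cj_mul]; exact k _ (lW x hx c)))
  have nT : P ⊓ 𝐍(T) ≤ 𝐍(W) := fun g hg => nW g hg.1 (cj_le_of_mem_normalizer hg.2 WT)
  have AW : A ≤ W := by simpa only [cj_one] using lW 1 (one_mem _) (by rwa [cj_one])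
  obtain ⟨P₁, l1, u⟩ := exists_uMax ((le_inf h.syl.le le_normalizer).trans nT) h.syl.le fun c => hA.ne (le_bot_iff.1
    (h.core ▸ AW.trans (le_pCoreOf (h.syl.isPGroup.to_le WT) (WT.trans h.syl.le) c)))
  have s := h.syl.mono (u.le.trans inf_le_left) l1
  have nl : ¬ P₁ ≤ 𝐍(W) := fun c => u.lt.not_ge (le_inf le_rfl c)
  obtain ⟨_, ⟨c, g, hg, rfl⟩, c0⟩ : ∃ B ∈ {B | B ≤ T ∧ ∃ g ∈ P, B = cj[g] A}, ¬ B ≤ 𝐎[2](P₁) := by
    by_contra! c
    exact nl fun x hx => nW x (l1 hx) ((cj_le_of_mem_normalizer (le_normalizer_pCoreOf 2 P₁ hx) (hW ▸ sSup_le c)).trans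
      s.pCoreOf_le)
  obtain ⟨L, l2, -, k, hk, l3, l4⟩ := l_lemma' s u (fun c => nl ((le_inf l1 c).trans nT)) c c0
  obtain ⟨x, hx, -, n, -⟩ := Str.natOn_of_uMax h.ea (hA.cj h.norm hg).toMinOff ((l2.trans l1).trans h.norm)
    (le_bot_iff.1 (h.faith ▸ inf_le_inf_right _ (l2.trans l1))) l3 l4 fun Q a b => by
      obtain ⟨m, hm, e⟩ := ((s.mono u.le inf_le_left).cj k).exists_le_cj a b
      have k1 := mul_mem (l1 (cj_le_of_mem hk inf_le_left hm)) (l1 hk)
      rw [← cj_mul] at e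
      have := (h.cj k1).cent
      rw [← cj_normalizer] at this
      rw [← cj_eq_self_of_mem hm, ← cj_mul, cj_inf, cj_eq_self_of_mem (mul_mem (cj_le_of_mem hk inf_le_left hm) hk)]
      refine le_inf (inf_le_left.trans l2) (le_trans ?_ (cj_mono _ nT))
      rw [cj_inf, cj_eq_self_of_mem k1]
      exact le_inf (inf_le_left.trans (l2.trans l1)) ((inf_le_inf (l2.trans l1)
        (centralizer_anti (inf_le_inf_left _ (centralizer_anti e)))).trans this)
  have l5 := le_sup_left.trans (l3.le.trans inf_le_left)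
  exact ⟨g, hg, _, (sup_le l5 (cj_le_of_mem hx l5)).trans (l2.trans l1), n⟩

theorem fam : Fam 2 V P := ⟨h.ea, h.norm, h.faith, fun A hA => by
  obtain ⟨k, hk, l⟩ := h.syl.exists_le_cj (isElemAb_isPGroup hA.ea) hA.le
  obtain ⟨g, hg, L, hL, n⟩ := (h.cj hk).exists_nat hA l
  exact ⟨_, cj_le_of_mem (inv_mem hg) hL, by simpa only [cj_inv_cj] using n.cj (inv_mem (h.norm hg))⟩⟩

theorem gst (l : P ⊓ 𝐍(T) ≤ 𝐍(X)) : Gst 2 V P T (P ⊓ 𝐍(X)) :=
  ⟨h.fam, h.syl, le_inf h.syl.le ((le_inf h.syl.le le_normalizer).trans l), inf_le_left,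
    le_inf inf_le_left ((le_inf inf_le_left h.cent).trans l)⟩

theorem big (n : NatP V L A) (hL : L ≤ P) (c : 2 < Nat.card A) (hB : Off 2 V P B) (l : Nat.card B ≤ Nat.card A) :
    (∃ y ∈ L, cj[y] A = B) ∨ Cm V L B := by
  have hA := h.fam.off_of_nat n ((natP_le n).trans hL)
  obtain ⟨k, hk, AT⟩ := h.syl.exists_le_cj (isElemAb_isPGroup hA.ea) hA.le
  have h' := h.cj hk
  obtain ⟨F, _, _, ρ, ψ, n', hi⟩ := id n
  obtain ⟨x, l0, l1⟩ := (field_cases F).resolve_right fun e => by rw [n'.card_A' hi, card_eq_two_of_cases e] at c; omega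
  obtain ⟨y, hy, e⟩ := (h'.gst fun g hg => mem_norm_offJ h.norm hg.1 (cj_le_of_mem_normalizer hg.2 offJ_le)).exists_comm le_rfl
    hA AT n' hi hL (fun c => natP_not_le n (h'.syl.isPGroup.to_le offJ_le) (le_offJ hA AT) (c.trans inf_le_right)) l0 l1 hB l
  refine or_iff_not_imp_left.2 fun c => And.symm ?_
  exact h.fam.cent_of_comm (hA.cj h.norm (hL hy)) hB e (n'.cj' hy) hL (fun e => c ⟨y, hy, e⟩)
    (fun g hg => NatOn.inj_cj hi y g ((cj_eq_self_of_mem hy).ge hg)) l0 l1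

theorem big' (n : NatP V L A) (hL : L ≤ P) (c : 2 < Nat.card A) (n' : NatP V L' A') (hL' : L' ≤ P)
    (l : Nat.card A' ≤ Nat.card A) : (L' ≤ L ∧ Nat.card A' = Nat.card A) ∨ Cm V L L' := by
  have hA := h.fam.off_of_nat n' ((natP_le n').trans hL')
  have k := fun x (hx : x ∈ L') => h.big n hL c (hA.cj h.norm (hL' hx)) (by rwa [card_cj])
  refine or_iff_not_imp_right.2 fun c0 => ?_
  obtain ⟨x, hx, y, hy, e⟩ : ∃ x ∈ L', ∃ y ∈ L, cj[y] A = cj[x] A' := by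
    by_contra! c1
    exact c0 (cm_sup n' (hL'.trans h.norm) fun x hx => (k x hx).resolve_left fun ⟨y, hy, e⟩ => c1 x hx y hy e)
  refine ⟨?_, by rw [← card_cj x A', ← e, card_cj]⟩
  obtain ⟨w, hw, e1⟩ := natP_exists (natP_cj n' hx)
  have l1 : cj[x] A' ≤ L := e ▸ cj_le_of_mem hy (natP_le n)
  rw [← e1, ← cj_mul]
  rcases k _ (mul_mem hw hx) with ⟨z, hz, e2⟩ | c1
  · exact sup_le l1 (e2 ▸ cj_le_of_mem hz (natP_le n))
  refine absurd (le_trans ?_ (centralizer_le_normalizer _)) (natP_not_norm (natP_cj n' (mul_mem hw hx)))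
  conv_lhs => rw [← e1, ← cj_mul]
  exact sup_le (le_centralizer_iff.1 (c1.1.trans (centralizer_anti l1)))
    (isElemAb_le_centralizer (hA.cj h.norm (hL' (mul_mem hw hx))).ea)

theorem pair (ta : Tv V P a r) (tb : Tv V P b s) (l : lam a b = 1) (tc : Tv V P c t) :
    c ∈ zpowers a ⊔ zpowers b ∨ (zpowers a ⊔ zpowers b ≤ 𝐂(zpowers c) ∧ ⁅V, zpowers a ⊔ zpowers b⁆ ≤ 𝐂(zpowers c)) := by
  have f := h.fam
  wlog aT : a ∈ T generalizing T e
  · obtain ⟨k, hk, l⟩ := h.syl.exists_le_cj (ta.isPGroup f) (zpowers_le.2 ta.mem)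
    exact this (h.cj hk) (zpowers_le.1 l)
  have JT : tvJ V P T ≤ T := (closure_le _).2 fun _ c => c.1
  have gs := h.gst (X := tvJ V P T) fun g hg => mem_normalizer_of_cj_le (cj_le_iff.2 ((closure_le _).2 fun x ⟨hx, r, tx⟩ =>
    mem_cj.2 (by rw [inv_inv]; exact subset_closure ⟨conj_mem_of_mem_normalizer hg.2 hx, _, tx.cj f hg.1⟩)))
  obtain ⟨E, EP, bE, -, k, m, m2, ev, ρ, ψ, sy, -, sw⟩ := gs.sym le_rfl h.core tb fun c => by
    have := gs.lam_T ta (ta.cj f tb.mem) aT (JT (conj_mem_of_mem_normalizer c.2 (subset_closure ⟨aT, r, ta⟩)))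
    rw [ta.lam_conj f ta tb, lam_self, lam_comm, l] at this
    exact absurd this (by decide)
  have aE := (k a r ta).resolve_right fun c => lam_eq_one.1 l (c.1 bE a (mem_zpowers a))
  obtain rfl : m = 2 := by_contra fun m0 => by
    obtain ⟨z, hz⟩ := Fintype.exists_lt_card_fiber_of_mul_lt_card (ψ e) (n := 2) (by
      obtain ⟨j, rfl⟩ := ev; simp; omega)
    obtain ⟨i, j, j', hi, hj, hj', ij, ij', jj'⟩ := Finset.two_lt_card_iff.1 hz
    simp only [Finset.mem_filter, Finset.mem_univ, true_and] at hi hj hj'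
    have key : ∀ {j}, i ≠ j → ψ e j = z → ∃ g ∈ E ⊓ T, ρ g = swap i j := fun {j} ij hj => by
      obtain ⟨g, hg, e1⟩ := sy.ρsurj (swap i j)
      have ge := conj_mem_of_mem_normalizer (sy.norm hg) h.mem
      have e2 : ψ (g * e * g⁻¹) = ψ e := funext fun x => by
        rw [← swap_apply_self i j x, ← e1, sy.equiv g hg e h.mem, e1, swap_apply_self]
        exact apply_swap_eq_self (hi.trans hj.symm) x
      have e3 : ⁅g, e⁆ = 1 := mem_bot.1 ((sy.comm_inf_cent f EP m2).le ⟨by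
        rw [commutator_comm]; exact commutator_mem_commutator hg h.mem, (sy.ker _ (cm_mem (sy.norm hg) h.mem)).1 (by
          have := sy.ψmul _ (cm_mem (sy.norm hg) h.mem) _ h.mem
          rwa [← comm_conj_eq, e2, eq_comm, add_eq_right] at this)⟩)
      refine ⟨g, ⟨hg, zpowers_le.1 (h.syl.le_of_le_normalizer' (pg_of_sq (sy.inj _ (mul_mem hg hg) ?_)) (zpowers_le.2 (EP hg))
        (zpowers_le.2 (h.cen ⟨EP hg, mem_cz.2 (commutatorElement_eq_one_iff_mul_comm.1 e3).symm⟩)))⟩, e1⟩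
      rw [sy.ρmul _ hg _ hg, e1, swap_mul_self]
    obtain ⟨g, hg, e1⟩ := key ij hj
    obtain ⟨g', hg', e2⟩ := key ij' hj'
    have m1 := (E ⊓ T).mul_mem hg hg'
    have e3 : (g * g') ^ 3 = 1 := sy.inj _ (pow_mem m1.1 3) (by
      have := (Perm.isThreeCycle_swap_mul_swap_same ij ij' jj').orderOf ▸ pow_orderOf_eq_one (swap i j * swap i j')
      rwa [pow_three', sy.ρmul _ (mul_mem m1.1 m1.1) _ m1.1, sy.ρmul _ m1.1 _ m1.1, sy.ρmul _ hg.1 _ hg'.1, e1, e2, ← pow_three'])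
    have e4 := eq_one_of_coprime_of_mem h.syl.isPGroup m1.2
      (Nat.Coprime.coprime_dvd_left (orderOf_dvd_of_pow_eq_one e3) (by norm_num))
    have e5 := sy.ρmul _ hg.1 _ hg'.1
    rw [e4, sy.ρone, e1, e2] at e5
    exact (Perm.isThreeCycle_swap_mul_swap_same ij ij' jj').ne_one e5.symm
  have e1 : zpowers a ⊔ zpowers b = E := le_antisymm (sup_le (zpowers_le.2 aE) (zpowers_le.2 bE)) (sy.le_of_swaps fun i => by
    have ma : a ∈ E ⊓ (zpowers a ⊔ zpowers b) := ⟨aE, Ps.mu a b⟩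
    have mb : b ∈ E ⊓ (zpowers a ⊔ zpowers b) := ⟨bE, Ps.mz a b⟩
    rcases swap_three _ _ (sw a r ta aE) (sw b s tb bE) (fun e => lam_eq_one.1 l (by rw [sy.eq_of_ρ aE bE e])) i with e | e | e
    exacts [⟨a, ma, e.symm⟩, ⟨b, mb, e.symm⟩, ⟨_, mul_mem (mul_mem ma mb) (inv_mem ma), (sy.ρconj aE bE).trans e.symm⟩])
  exact e1 ▸ k c t tc

theorem small (n : NatP V L A) (hL : L ≤ P) (c : Nat.card A ≤ 2) (n' : NatP V L' A') (hL' : L' ≤ P)
    (l : Nat.card A' ≤ 2) : (L' ≤ L ∧ Nat.card A' = Nat.card A) ∨ Cm V L L' := by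
  have f := h.fam
  have k : ∀ {L A}, NatP V L A → L ≤ P → Nat.card A ≤ 2 → Nat.card A = 2 ∧
      ∃ a r b s, Tv V P a r ∧ Tv V P b s ∧ lam a b = 1 ∧ L = zpowers a ⊔ zpowers b := fun {L A} n hL c => by
    obtain ⟨F, _, _, ρ, ψ, n, hi⟩ := n
    rw [n.card_A' hi] at c ⊢
    obtain ⟨a, r, b, s, ta, tb, -, e⟩ := f.exists_pair n hi hL ((field_cases F).resolve_left
      fun ⟨_, l0, l1⟩ => (two_lt_card_of_ne l0 l1).not_ge c)
    exact ⟨le_antisymm c Finite.one_lt_card, a, r, b, s, ta, tb, e⟩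
  obtain ⟨c1, a, r, b, s, ta, tb, e, rfl⟩ := k n hL c
  obtain ⟨c2, a', r', b', s', ta', tb', e', rfl⟩ := k n' hL' l
  rcases h.pair ta tb e ta' with k1 | k1 <;> rcases h.pair ta tb e tb' with k2 | k2
  · exact Or.inl ⟨sup_le (zpowers_le.2 k1) (zpowers_le.2 k2), c2.trans c1.symm⟩
  · exact absurd (k2.1 k1 b' (mem_zpowers b')).symm (lam_eq_one.1 e')
  · exact absurd (k1.1 k2 a' (mem_zpowers a')) (lam_eq_one.1 e')
  · exact Or.inr (Cm.symm (by rw [Cm, centralizer_sup]; exact ⟨le_inf k1.1 k2.1, le_inf k1.2 k2.2⟩))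

theorem le_or (n : NatP V L A) (hL : L ≤ P) (n' : NatP V L' A') (hL' : L' ≤ P) (l : Nat.card A' ≤ Nat.card A) :
    (L' ≤ L ∧ Nat.card A' = Nat.card A) ∨ Cm V L L' :=
  (lt_or_ge 2 (Nat.card A)).elim (fun c => h.big' n hL c n' hL' l) fun c => h.small n hL c n' hL' (l.trans c)

/-- two natural partners are equal or commute -/
theorem eq_or (n : NatP V L A) (hL : L ≤ P) (n' : NatP V L' A') (hL' : L' ≤ P) : L = L' ∨ Cm V L L' := by
  wlog l : Nat.card A' ≤ Nat.card A generalizing L L' A A'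
  · exact (this n' hL' n hL (le_of_not_ge l)).imp Eq.symm Cm.symm
  rcases h.le_or n hL n' hL' l with ⟨c, e⟩ | c
  · exact (h.le_or n' hL' n hL e.ge).imp (fun k => le_antisymm k.1 c) Cm.symm
  · exact Or.inr c

theorem top (hA : Off 2 V P A) (l : A ≤ T) : ∃ L, Top 2 V P T ⊥ A L := by
  have f := h.fam
  obtain ⟨L, hL, n⟩ := f.nat A hA
  refine ⟨L, hA, l, n, hL, fun c => hA.ne (le_bot_iff.1 ((natP_le n).trans c)), fun B BT hB ne => ?_, fun t ht => ?_⟩
  · obtain ⟨L', hL', n'⟩ := f.nat B hB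
    rcases h.eq_or n hL n' hL' with rfl | c
    · have p := h.syl.isPGroup.to_le (sup_le l BT)
      have k := sup_le (natP_le n) (natP_le n')
      exact absurd (le_antisymm (le_sup_left.trans (natP_le_of_pg n' p le_sup_right k))
        (le_sup_right.trans (natP_le_of_pg n p le_sup_left k))) ne
    · exact ⟨(commutator_mono le_rfl (natP_le n')).trans c.2, (natP_le n').trans c.1⟩
  · have tP := h.syl.le ht.1
    have n' := n.cj (h.norm tP)
    rw [cj_eq_self ht.2] at n'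
    exact cj_eq_self_iff.1 ((h.eq_or n hL n' (cj_le_of_mem tP hL)).resolve_right fun c => natP_not_norm n
      ((le_centralizer_iff.1 ((natP_le n').trans c.1)).trans (centralizer_le_normalizer _))).symm

/-- an offender is generated by minimal offenders -/
theorem le_offJ (hK : K ≤ T) (ea : IsElementaryAbelian 2 K) (ho : Nat.card V ≤ Nat.card K * Nat.card ↥(V ⊓ 𝐂(K))) :
    K ≤ offJ 2 V P K := by
  have f := h.fam
  induction K using WellFoundedLT.induction with | ind K ih => ?_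
  by_cases h0 : K = ⊥
  · exact h0.le.trans bot_le
  obtain ⟨B, hB, o, -⟩ := exists_off ea (hK.trans h.syl.le) h0 le_rfl ho
  obtain ⟨L, t⟩ := h.top o (hB.trans hK)
  have c : K ≤ 𝐂(B) := (isElemAb_le_centralizer ea).trans (centralizer_anti hB)
  have e := t.split f h.syl hK (c.trans (centralizer_le_normalizer _)) hB (.inl c)
  obtain ⟨K', hK'⟩ : ∃ K', K' = K ⊓ (𝐂(L) ⊓ 𝐂(⁅V, L⁆)) := ⟨_, rfl⟩
  rw [← hK'] at e
  have l1 : K' ≤ K := hK' ▸ inf_le_left
  have l2 : K' ≤ 𝐂(⁅V, L⁆) := hK' ▸ inf_le_right.trans inf_le_right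
  have d : B ⊓ K' = ⊥ := le_bot_iff.1 (t.inf_eq f ▸ inf_le_inf_left _ l2)
  refine e.ge.trans (sup_le (FF.le_offJ o hB) ((ih K' (lt_of_le_of_ne l1 fun e' => o.ne (by
    rw [← d, e', inf_eq_left.2 hB])) (l1.trans hK) (isElemAb_of_le ea l1) ?_).trans
    (sSup_le_sSup fun A hA => ⟨hA.1.trans l1, hA.2⟩)))
  have e3 := f.card_eq3 (A := K') o (le_antisymm (sup_le inf_le_left inf_le_left) ((t.le_comm_sup f).trans (sup_le_sup
    (le_inf (commutator_le_left_of_le_normalizer (t.le'.trans f.norm)) (le_centralizer_iff.1 l2))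
    (inf_le_inf_left _ (centralizer_anti t.le_L)))))
  rw [← inf_inf_distrib_left, ← centralizer_sup, sup_comm, e] at e3
  have e4 := card_sup_mul_card_inf' (H := B) (N := K') (l1.trans (c.trans (centralizer_le_normalizer _)))
  rw [e, d, card_bot, mul_one] at e4
  rw [e3, ← mul_assoc, mul_comm (Nat.card K'), ← e4]
  exact ho

/-- commutators of minimal offenders are fixed by all offenders -/
theorem comm_le (hA : Off 2 V P A) (l : A ≤ T) (hK : K ≤ T) (ea : IsElementaryAbelian 2 K)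
    (ho : Nat.card V ≤ Nat.card K * Nat.card ↥(V ⊓ 𝐂(K))) : ⁅V, A⁆ ≤ 𝐂(K) :=
  le_centralizer_iff.1 ((h.le_offJ hK ea ho).trans (sSup_le fun _ hB => le_centralizer_iff.1
    (h.fam.comm_le hA hB.2 (h.fam.comm_of_isPGroup h.syl.isPGroup hA hB.2 l (hB.1.trans hK)))))

end FD

end CF.Bm
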