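import Cfsg.Agent.Bm.A2

/-! Baumann's theorem: elements normalizing a pair of natural modules. -/

set_option autoImplicit false
set_option linter.unusedSectionVars false

namespace CF.Bm

open Cfsg Subgroup CF.Loc CF.FF CF.GC
open CF.PLocal (maxAb thompson_le le_thompson upT)
open scoped commutatorElement MatrixGroups

universe u
variable {G : Type u} [Group G] [Finite G]
variable {A A' A₁ B E H K L L' M P P' P₁ P₁' Q S T U U' U₁ V W X Y : Subgroup G} {a a₁ d e f g t u u₁ w x y z z₁ : G}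
variable {F F' : Type} [Field F] [Field F'] {ρ : G → SL(2, F)} {ψ : G → Fin 2 → F} {ρ' : G → SL(2, F')} {ψ' : G → Fin 2 → F'}

namespace Lx

theorem two_mul' (c : ∀ a ∈ K, ∀ b ∈ K, a ∉ H → b ∉ H → a * b ∈ H) : Nat.card K ≤ 2 * Nat.card ↥(K ⊓ H) := by
  classical
  by_cases l : K ≤ H
  · rw [inf_eq_left.2 l]; omega
  obtain ⟨a, ha, a0⟩ := SetLike.not_le_iff_exists.1 l
  have := CF.PLocal.card_le_card_mul_of_fibers (inf_le_left : K ⊓ H ≤ K) (fun x => decide ((x : G) ∈ H)) fun x y e => by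
    refine ⟨(x⁻¹ * y).2, ?_⟩
    by_cases hx : (x : G) ∈ H
    · exact H.mul_mem (H.inv_mem hx) (by simpa [hx] using e)
    · exact c _ (K.inv_mem x.2) _ y.2 (fun k => hx ((H.inv_mem_iff).1 k)) (by simpa [hx] using e)
  simpa using this

theorem two_mul_lt (l : H < K) : 2 * Nat.card H ≤ Nat.card K := by
  obtain ⟨k, e⟩ := card_dvd_of_le l.le
  have := card_lt_card_of_lt l
  have p : 0 < Nat.card H := Nat.card_pos
  rw [e] at this ⊢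
  have : 2 ≤ k := by
    by_contra c
    have : k = 0 ∨ k = 1 := by omega
    rcases this with rfl | rfl <;> omega
  nlinarith

theorem rel_card (H K : Subgroup G) : H.relIndex K * Nat.card ↥(H ⊓ K) = Nat.card K := by
  rw [mul_comm, card_inf_mul_relIndex]

theorem best (hE : E ∈ maxAb 2 T) (l : U ≤ T) (ea : IsElementaryAbelian 2 U) (hB : B ≤ E) (c : B ≤ 𝐂(U)) {m : ℕ}
    (i : Nat.card E ≤ m * Nat.card B) : Nat.card U ≤ m * Nat.card ↥(U ⊓ 𝐂(E)) := by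
  have c2 := CF.PLocal.maxAb_best hE l ea _ hB
  rw [inf_eq_left.2 (le_centralizer_comm.1 c)] at c2
  refine Nat.le_of_mul_le_mul_left (c2.trans ?_) (Nat.card_pos (α := B))
  rw [← mul_assoc, mul_comm (Nat.card B)]
  exact Nat.mul_le_mul_right _ i

theorem three (hx : x ∈ K) (hy : y ∈ K) (x0 : x ∉ H) (y0 : y ∉ H) (c : x * y ∉ H) : 2 < H.relIndex K := by
  have n : H.relIndex K ≠ 0 := FiniteIndex.index_ne_zero
  have n1 : H.relIndex K ≠ 1 := fun e => x0 (relIndex_eq_one.1 e hx)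
  have n2 : H.relIndex K ≠ 2 := fun e => by
    have := mul_mem_iff_of_index_two e (a := ⟨x, hx⟩) (b := ⟨y, hy⟩)
    simp only [mem_subgroupOf, coe_mul] at this
    tauto
  omega

theorem semi (h : NatOn F U P A ρ ψ) (hU : w ∈ 𝐍(U)) (hP : w ∈ 𝐍(P)) (hA : w ∈ 𝐍(A)) :
    ∃ (θ : F →+* F) (α β : F), α ≠ 0 ∧ β ≠ 0 ∧ (∀ r ∈ U ⊓ 𝐂(A), ψ (w * r * w⁻¹) 0 = α * θ (ψ r 0)) ∧
      ∀ v ∈ U, ψ (w * v * w⁻¹) 1 = β * θ (ψ v 1) := by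
  choose a ha ea using h.up'
  choose σ eσ using fun t => h.up _ (conj_mem_of_mem_normalizer hA (ha t))
  choose v hv ev using h.ψsurj
  have cU := fun {r} (hr : r ∈ U) => conj_mem_of_mem_normalizer hU hr
  have cA : ∀ {r}, r ∈ U ⊓ 𝐂(A) → ψ (w * r * w⁻¹) 1 = 0 := fun hr =>
    (h.fix _ (cU hr.1)).1 (conj_mem_of_mem_normalizer (normalizer_le_normalizer_centralizer _ hA) hr.2)
  have vA : ∀ c, v ![c, 0] ∈ U ⊓ 𝐂(A) := fun c => ⟨hv _, (h.fix _ (hv _)).2 (by rw [ev]; rfl)⟩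
  have mul : ∀ {r s}, r ∈ U → s ∈ U → ψ (w * (r * s) * w⁻¹) = ψ (w * r * w⁻¹) + ψ (w * s * w⁻¹) := fun hr hs => by
    rw [← conj_mul, h.ψmul _ (cU hr) _ (cU hs)]
  obtain ⟨f0, e0⟩ : ∃ f0 : F → F, ∀ c, f0 c = ψ (w * v ![c, 0] * w⁻¹) 0 := ⟨_, fun _ => rfl⟩
  obtain ⟨f1, e1⟩ : ∃ f1 : F → F, ∀ c, f1 c = ψ (w * v ![0, c] * w⁻¹) 1 := ⟨_, fun _ => rfl⟩
  have kA : ∀ r ∈ U ⊓ 𝐂(A), ψ (w * r * w⁻¹) 0 = f0 (ψ r 0) := fun r hr => by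
    rw [e0, h.ψ_conj_congr ⟨hU, hP⟩ hr.1 (hv ![ψ r 0, 0]) (by
      rw [ev]; ext i; fin_cases i
      · rfl
      · exact (h.fix r hr.1).1 hr.2)]
  have kB : ∀ r ∈ U, ψ (w * r * w⁻¹) 1 = f1 (ψ r 1) := fun r hr => by
    have m := mul_mem (inv_mem (hv ![0, ψ r 1])) hr
    rw [e1, ← mul_inv_cancel_left (v ![0, ψ r 1]) r, mul (hv _) m, Pi.add_apply, cA ⟨m, (h.fix _ m).2 (by
      rw [h.ψmul _ (inv_mem (hv _)) _ hr, h.ψinv (hv _), ev]; simp)⟩, add_zero, mul_inv_cancel_left]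
  have kC : ∀ t s, f0 (t * s) = σ t * f1 s := fun t s => by
    have := kA ⁅a t, v ![0, s]⁆ ⟨cm_mem (h.norm (h.le (ha t))) (hv _), h.comm_mem_cent (ha t) (hv _)⟩
    rw [cm_conj, h.ψcomm_up (h.le (conj_mem_of_mem_normalizer hA (ha t))) (eσ t) (cU (hv _)),
      h.ψcomm_up (h.le (ha t)) (ea t) (hv _), ev, ← e1] at this
    exact this.symm
  have kD : ∀ c c', f0 (c + c') = f0 c + f0 c' := fun c c' => by
    have := kA _ (mul_mem (vA c) (vA c'))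
    rw [mul (hv _) (hv _), h.ψmul _ (hv _) _ (hv _), ev, ev, Pi.add_apply, ← e0, ← e0] at this
    exact this.symm
  have kE : f0 1 ≠ 0 := fun e => by
    have : w * v ![1, 0] * w⁻¹ ∈ 𝐂(P) := (h.ker _ (cU (hv _))).1 (by
      ext i; fin_cases i
      · exact (e0 1).symm.trans e
      · exact cA (vA 1))
    have := (h.ker _ (hv _)).2 ((mem_normalizer_iff.1 (normalizer_le_normalizer_centralizer _ hP) _).2 this)
    rw [ev] at this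
    simpa using congrFun this 0
  have k1 := kC 1 1
  rw [mul_one] at k1
  have b0 : f1 1 ≠ 0 := fun e => kE (by rw [k1, e, mul_zero])
  have k2 : ∀ t, f0 t = σ t * f1 1 := fun t => by rw [← kC, mul_one]
  have k3 : ∀ t, f0 t = σ 1 * f1 t := fun t => by rw [← kC, one_mul]
  let θ : F →+* F :=
    { toFun := fun c => f0 c / f0 1
      map_one' := div_self kE
      map_mul' := fun s t => by
        rw [div_mul_div_comm, div_eq_div_iff kE (mul_ne_zero kE kE), kC, k2 s, k3 t, k1]; ring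
      map_zero' := by
        have := kD 0 0
        rw [add_zero, left_eq_add] at this
        rw [this, zero_div]
      map_add' := fun s t => by rw [kD, add_div] }
  refine ⟨θ, f0 1, f1 1, kE, b0, fun r hr => ?_, fun r hr => ?_⟩
  · rw [kA r hr]; exact (mul_div_cancel₀ _ kE).symm
  · rw [kB r hr]
    show _ = f1 1 * (f0 (ψ r 1) / f0 1)
    rw [mul_div_assoc', eq_div_iff kE, k3 (ψ r 1), k1]; ring

theorem split (h : Hb F U A P ρ ψ) (hU : w ∈ 𝐍(U)) (hP : w ∈ 𝐍(P)) (hA : w ∈ 𝐍(A)) (p : IsPGroup 2 (zpowers w))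
    (c : w ∈ 𝐂(A) ∨ ∀ r ∈ U ⊓ 𝐂(A), ⁅w, r⁆ ∈ 𝐂(P)) : ∃ a ∈ A, a * w ∈ 𝐂(U) := by
  obtain ⟨ρ', ψ', n', hi⟩ := nat_bar h.nat h.ker
  have nA := h.nat.le.trans h.nat.norm
  have z := zpowers_le.2 hU
  have m := pb_mem z (mem_zpowers w)
  obtain ⟨a, ha, e⟩ := n'.split hi (isElemAb_hat h.ea) ⟨bar_le_normalizer_hat _ m, bar_le_normalizer_bar z (zpowers_le.2 hP) m⟩
    (bar_le_normalizer_bar z (zpowers_le.2 hA) m) (bar_zpowers' hU ▸ (isPGroup_subgroupOf p).map _) (c.imp (fun c y hy => by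
      obtain ⟨b, hb, rfl⟩ := (mem_bar_iff nA).1 hy
      rw [← pb_mul (nA hb) hU, ← pb_mul hU (nA hb), c b hb]) fun c y hy => by
      obtain ⟨r, hr, rfl⟩ := (mem_hat_iff le_rfl).1 hy.1
      rw [← ib_comm hU hr, ib_mem_cent h.nat.norm (cm_mem hU hr)]
      exact c r ⟨hr, (ib_mem_cent nA hr).1 hy.2⟩)
  obtain ⟨b, hb, rfl⟩ := (mem_bar_iff nA).1 ha
  have m' := mul_mem (nA hb) hU
  refine ⟨b, hb, le_cz_iff.1 ((hat_le_centralizer_iff le_rfl (zpowers_le.2 m')).1 ?_)⟩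
  rw [bar_zpowers' m', le_cz_iff, pb_mul (nA hb) hU]
  refine centralizer_anti ?_ e.2
  rw [commutator_hat_bar le_rfl h.nat.norm]
  exact hat_mono h.cm

theorem scal (h : Hb F U A P ρ ψ) (hU : w ∈ 𝐍(U)) (hA : w ∈ 𝐍(A)) (p : IsPGroup 2 (zpowers w)) {α : F}
    (c : ∀ r ∈ U ⊓ 𝐂(A), ψ (w * r * w⁻¹) 0 = α * ψ r 0) : ∀ r ∈ U ⊓ 𝐂(A), ⁅w, r⁆ ∈ 𝐂(P) := by
  have n : w ∈ 𝐍(U ⊓ 𝐂(A)) := zpowers_le.1 (le_normalizer_inf (zpowers_le.2 hU)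
    (le_normalizer_centralizer (zpowers_le.2 hA)))
  have it : ∀ k : ℕ, ∀ r ∈ U ⊓ 𝐂(A), ψ (w ^ k * r * (w ^ k)⁻¹) 0 = α ^ k * ψ r 0 := fun k => by
    induction k with
    | zero => simp
    | succ k ih =>
      intro r hr
      rw [pow_succ, pow_succ, mul_assoc (α ^ k), ← c r hr, ← ih _ (conj_mem_of_mem_normalizer n hr)]
      congr 1; group
  obtain ⟨k, hk⟩ := p ⟨w, mem_zpowers w⟩
  obtain ⟨v, hv, ev⟩ := h.nat.ψsurj ![1, 0]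
  have e := it (2 ^ k) v ⟨hv, (h.nat.fix v hv).2 (by rw [ev]; rfl)⟩
  rw [show w ^ 2 ^ k = 1 from congrArg Subtype.val hk, one_mul, inv_one, mul_one, ev] at e
  have : CharP F 2 := (CharP.charP_iff_prime_eq_zero Nat.prime_two).2 (by exact_mod_cast h.two)
  have a1 : α = 1 := sub_eq_zero.1 (pow_eq_zero_iff (n := 2 ^ k) (by positivity) |>.1 (by
    rw [sub_pow_char_pow, one_pow, sub_eq_zero]; simpa using e.symm))
  intro r hr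
  have m := conj_mem_of_mem_normalizer n hr
  rw [← h.nat.ker _ (cm_mem hU hr.1), commutatorElement_def, h.nat.ψmul _ m.1 _ (inv_mem hr.1), h.nat.ψinv hr.1]
  ext i; fin_cases i
  · simp [c r hr, a1]
  · simp [(h.nat.fix _ m.1).1 m.2, (h.nat.fix _ hr.1).1 hr.2]

end Lx

open Lx

namespace PY
variable (h : PY Y U A P P')
include h

theorem nor : Y ⊓ 𝐍(U) = Y ⊓ 𝐍(A) :=
  le_antisymm (le_inf inf_le_left (h.l.nor.trans inf_le_right)) (le_inf inf_le_left (h.r.nor.trans inf_le_right))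

theorem auc (hx : x ∈ Y) (m : x ∈ A ⊔ (U ⊔ 𝐂(P))) : x ∈ U ⊔ (A ⊔ 𝐂(P')) := by
  obtain ⟨a, ha, u, hu, c, hc, rfl⟩ := h.l.hb.exists_mul m
  exact mul_mem (mem_sup_right (mem_sup_left ha)) (mul_mem (mem_sup_left hu) (mem_sup_right (h.r.cen
    ⟨(mul_mem_cancel_left (h.l.lU hu)).1 ((mul_mem_cancel_left (h.l.lA ha)).1 hx), centralizer_anti h.l.hb.le' hc⟩)))

theorem le_nor : U ⊔ A ≤ Y ⊓ 𝐍(U) := sup_le (le_inf h.l.lU le_normalizer) (le_inf h.l.lA (h.l.hb.le'.trans h.l.hb.norm))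

theorem cent_R : A ⊔ (U ⊔ 𝐂(P)) ≤ 𝐂(U ⊓ A) :=
  sup_le (h.l.hb.ab'.trans (centralizer_anti inf_le_right)) (h.l.hb.sup_le_cent.trans (centralizer_anti inf_le_left))

variable (pY : IsPGroup 2 Y)
include pY

theorem lin (hw : w ∈ Y ⊓ 𝐍(U)) (c : w ∈ 𝐂(A) ∨ ∀ r ∈ U ⊓ A, ⁅w, r⁆ ∈ 𝐂(P)) : w ∈ A ⊔ (U ⊔ 𝐂(P)) := by
  have n := h.l.nor hw
  rw [← h.inf_eq] at c
  obtain ⟨F, _, _, ρ, ψ, k⟩ := h.l
  obtain ⟨a, ha, e⟩ := Lx.split k.toHb hw.2 n.1 n.2 (pY.to_le (zpowers_le.2 hw.1)) c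
  rw [← inv_mul_cancel_left a w]
  exact mul_mem (mem_sup_left (inv_mem ha)) (mem_sup_right (k.cen ⟨Y.mul_mem (k.lA ha) hw.1, e⟩))

theorem lin' (k : Hb F U A P ρ ψ) (hw : w ∈ Y ⊓ 𝐍(U)) {α : F} (c : ∀ r ∈ U ⊓ 𝐂(A), ψ (w * r * w⁻¹) 0 = α * ψ r 0) :
    w ∈ A ⊔ (U ⊔ 𝐂(P)) :=
  h.lin pY hw (.inr (h.inf_eq ▸ scal k hw.2 (h.l.nor hw).2 (pY.to_le (zpowers_le.2 hw.1)) c))

theorem invol (k : Hb F U A P ρ ψ) (hw : w ∈ Y ⊓ 𝐍(U)) (s : w * w = 1) (w0 : w ∉ A ⊔ (U ⊔ 𝐂(P))) :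
    ∃ (θ : F →+* F) (α β : F), (∀ c, θ (θ c) = c) ∧ (¬ ∀ c, θ c = c) ∧
      (∀ r ∈ U ⊓ 𝐂(A), ψ (w * r * w⁻¹) 0 = α * θ (ψ r 0)) ∧ ∀ v ∈ U, ψ (w * v * w⁻¹) 1 = β * θ (ψ v 1) := by
  have n := h.l.nor hw
  obtain ⟨θ, α, β, -, -, e0, e1⟩ := semi k.nat hw.2 n.1 n.2
  have n' : w ∈ 𝐍(U ⊓ 𝐂(A)) := zpowers_le.1 (le_normalizer_inf (zpowers_le.2 hw.2)
    (le_normalizer_centralizer (zpowers_le.2 n.2)))
  have q : ∀ c, α * θ (α * θ c) = c := fun c => by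
    obtain ⟨v, hv, ev⟩ := k.nat.ψsurj ![c, 0]
    have m : v ∈ U ⊓ 𝐂(A) := ⟨hv, (k.nat.fix v hv).2 (by rw [ev]; rfl)⟩
    have := e0 _ (conj_mem_of_mem_normalizer n' m)
    rw [e0 v m, show w * (w * v * w⁻¹) * w⁻¹ = w * w * v * (w * w)⁻¹ by group, s, one_mul, inv_one, mul_one, ev] at this
    exact this.symm
  refine ⟨θ, α, β, fun c => ?_, fun c => w0 (h.lin' pY k hw fun r hr => by rw [e0 r hr, c]), e0, e1⟩
  have := q 1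
  rw [map_one, mul_one] at this
  rw [← one_mul (θ (θ c)), ← this, mul_assoc, ← map_mul, q]

theorem fa (hx : x ∈ Y ⊓ 𝐍(U)) (hy : y ∈ Y ⊓ 𝐍(U)) (sx : x * x = 1)
    (sy : y * y = 1) (x0 : x ∉ A ⊔ (U ⊔ 𝐂(P))) (y0 : y ∉ A ⊔ (U ⊔ 𝐂(P))) : x * y ∈ A ⊔ (U ⊔ 𝐂(P)) := by
  obtain ⟨F, _, _, ρ, ψ, k⟩ := h.l.hb
  obtain ⟨θ, α, -, i, n, e, -⟩ := h.invol pY k hx sx x0
  obtain ⟨θ', α', -, i', n', e', -⟩ := h.invol pY k hy sy y0
  have m : y ∈ 𝐍(U ⊓ 𝐂(A)) := zpowers_le.1 (le_normalizer_inf (zpowers_le.2 hy.2)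
    (le_normalizer_centralizer (zpowers_le.2 (h.l.nor hy).2)))
  refine h.lin' pY k (mul_mem hx hy) (α := α * θ α') fun r hr => ?_
  rw [show x * y * r * (x * y)⁻¹ = x * (y * r * y⁻¹) * x⁻¹ by group, e _ (conj_mem_of_mem_normalizer m hr), e' r hr,
    map_mul, hom_eq_of_sq i i' n n', mul_assoc]

theorem fld (hw : w ∈ Y ⊓ 𝐍(U)) (s : w * w = 1) (w0 : w ∉ A ⊔ (U ⊔ 𝐂(P))) :
    2 < 𝐂(zpowers w).relIndex U ∧ ∃ v ∈ U, ⁅w, v⁆ ∉ A := by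
  obtain ⟨F, _, _, ρ, ψ, k⟩ := h.l.hb
  obtain ⟨θ, -, β, -, n, -, e⟩ := h.invol pY k hw s w0
  obtain ⟨v, hv, c⟩ : ∃ v ∈ U, ⁅w, v⁆ ∉ 𝐂(A) := by
    by_contra! c
    have : ∀ t, β * θ t = t := fun t => by
      obtain ⟨v, hv, ev⟩ := k.nat.ψsurj ![0, t]
      have := (k.nat.fix _ (cm_mem hw.2 hv)).1 (c v hv)
      rw [commutatorElement_def, k.nat.ψmul _ (conj_mem_of_mem_normalizer hw.2 hv) _ (inv_mem hv), k.nat.ψinv hv,
        Pi.add_apply, e v hv, ev] at this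
      simpa [add_neg_eq_zero] using this
    have b := this 1
    rw [map_one, mul_one] at b
    exact n fun t => by simpa [b] using this t
  obtain ⟨r, hr, c'⟩ : ∃ r ∈ U ⊓ A, ⁅w, r⁆ ∉ 𝐂(P) := by
    by_contra! c
    exact w0 (h.lin pY hw (.inr c))
  have m : w ∈ 𝐍(U ⊓ A) := zpowers_le.1 (le_normalizer_inf (zpowers_le.2 hw.2) (zpowers_le.2 (h.l.nor hw).2))
  refine ⟨three hr.1 hv (fun z => c' ?_) (fun z => c ?_) fun z => c ?_, v, hv, fun z => c (h.l.hb.ab' z)⟩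
  · rw [cm_one (mem_cz.1 z)]; exact one_mem _
  · rw [cm_one (mem_cz.1 z)]; exact one_mem _
  · have := cm_one (mem_cz.1 z)
    rw [cm_right k.ab hw.2 hr.1 hv] at this
    rw [eq_inv_of_mul_eq_one_right this]
    exact inv_mem (h.l.hb.ab' (cm_mem m hr).2)

theorem card_le (ea : IsElementaryAbelian 2 E) (l : E ≤ Y ⊓ 𝐍(U)) :
    Nat.card E ≤ 2 * Nat.card ↥(E ⊓ (A ⊔ (U ⊔ 𝐂(P)))) :=
  two_mul' fun _ ha _ hb => h.fa pY (l ha) (l hb) (sq_of_ea ea ha) (sq_of_ea ea hb)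

theorem jn0 (hE : E ∈ maxAb 2 (Y ⊓ 𝐍(U))) (hw : w ∈ E) (w0 : w ∉ A ⊔ (U ⊔ 𝐂(P))) :
    ¬ E ⊓ (A ⊔ (U ⊔ 𝐂(P))) ≤ 𝐂(U) := fun c => by
  have c2 := best hE (le_sup_left.trans h.le_nor) h.l.hb.ea inf_le_left c (h.card_le pY hE.2.1 hE.1)
  have c3 := (h.fld pY (hE.1 hw) (sq_of_ea hE.2.1 hw) w0).1
  have c4 : Nat.card ↥(U ⊓ 𝐂(E)) ≤ Nat.card ↥(𝐂(zpowers w) ⊓ U) :=
    card_le_card_of_le (le_inf (inf_le_right.trans (centralizer_anti (zpowers_le.2 hw))) inf_le_left)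
  have c5 := rel_card 𝐂(zpowers w) U
  have p' : 0 < Nat.card ↥(𝐂(zpowers w) ⊓ U) := Nat.card_pos
  nlinarith

theorem jn1 (hE : E ∈ maxAb 2 (Y ⊓ 𝐍(U))) : E ≤ A ⊔ (U ⊔ 𝐂(P)) := fun w hw => by_contra fun w0 => by
  rcases h.l.hb.inv' (isElemAb_of_le hE.2.1 inf_le_left) (inf_le_right (a := E)) with c | c
  · exact h.jn0 pY hE hw w0 c
  · refine h.symm.jn0 pY (h.nor ▸ hE) hw (fun m => w0 (h.symm.auc (hE.1 hw).1 m)) (le_trans ?_ c)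
    exact fun x hx => ⟨hx.1, h.symm.auc (hE.1 hx.1).1 hx.2⟩

theorem jn : 𝐉[2](Y ⊓ 𝐍(U)) ≤ A ⊔ (U ⊔ 𝐂(P)) ∧ ∃ E ∈ maxAb 2 (Y ⊓ 𝐍(U)), U ≤ E := by
  refine ⟨CF.PLocal.thompson_le_iff.2 fun E hE => h.jn1 pY hE, ?_⟩
  obtain ⟨E, hE⟩ := CF.PLocal.maxAb_nonempty 2 (Y ⊓ 𝐍(U))
  have lU := le_sup_left.trans h.le_nor
  rcases h.l.hb.inv' hE.2.1 (h.jn1 pY hE) with c | c
  · exact ⟨E, hE, CF.PLocal.le_of_le_centralizer_maxAb hE lU (le_centralizer_comm.1 c)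
      (isElementaryAbelian_iff.1 h.l.hb.ea).2⟩
  have c0 : E ⊓ 𝐂(U) ≤ 𝐂(U) := inf_le_right
  refine ⟨(E ⊓ 𝐂(U)) ⊔ U, CF.PLocal.mem_maxAb_of_card_le hE (sup_le (inf_le_left.trans hE.1) lU)
    (isElemAb_sup (isElemAb_of_le hE.2.1 inf_le_left) h.l.hb.ea c0) ?_, le_sup_right⟩
  have c1 := card_sup_mul_card_inf (c0.trans (centralizer_le_normalizer _))
  have c2 : Nat.card ↥(E ⊓ 𝐂(U) ⊓ U) ≤ Nat.card ↥(U ⊓ 𝐂(A)) :=
    card_le_card_of_le (le_inf inf_le_right ((inf_le_left.trans inf_le_left).trans c))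
  have c3 : 𝐂(U).relIndex E ≤ 𝐂(U).relIndex A :=
    (relIndex_le_of_le_right ((h.jn1 pY hE).trans (sup_le_sup_left h.l.hb.sup_le_cent _)) FiniteIndex.index_ne_zero).trans (by
      rw [sup_comm, relIndex_sup_of_le_normalizer (le_normalizer_centralizer (h.l.hb.le'.trans h.l.hb.norm))])
  have c4 := rel_card 𝐂(U) E
  have c5 := rel_card 𝐂(U) A
  obtain ⟨F, _, _, ρ, ψ, k⟩ := h.l.hb
  have c6 := k.nat.card_V
  have c7 := k.nat.card_A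
  rw [inf_comm] at c4 c5
  have p : 0 < Nat.card ↥(A ⊓ 𝐂(U)) := Nat.card_pos
  have p' : 0 < Nat.card ↥(U ⊓ 𝐂(A)) := Nat.card_pos
  have c8 : 𝐂(U).relIndex A = Nat.card F := Nat.eq_of_mul_eq_mul_right p (c5.trans c7)
  refine Nat.le_of_mul_le_mul_right ?_ p'
  calc Nat.card E * Nat.card ↥(U ⊓ 𝐂(A)) ≤ Nat.card F * Nat.card ↥(E ⊓ 𝐂(U)) * Nat.card ↥(U ⊓ 𝐂(A)) := by
        rw [← c4, ← c8]; gcongr
    _ = Nat.card ↥(E ⊓ 𝐂(U)) * Nat.card U := by rw [c6]; ring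
    _ ≤ _ := by rw [← c1]; gcongr

end PY

end CF.Bm
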