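import Cfsg.Agent.Bm.S1

/-! Baumann's theorem: dihedral closure of small pairs, and big pairs. -/

set_option autoImplicit false
set_option linter.unusedSectionVars false

namespace CF.Bm

open Cfsg Subgroup CF.Loc CF.FF CF.GC
open CF.PLocal (maxAb thompson_le le_thompson upT)
open scoped commutatorElement MatrixGroups

universe u
variable {G : Type u} [Group G] [Finite G]
variable {A A' A₁ B E H K L L' M P P' P₁ P₁' Q S T U U' U₁ V W X Y : Subgroup G}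
  {a a₁ b d e f g r s t u u₁ v w x z z₁ τ : G}

namespace S2x
open Lx Sx

theorem ord_lt (p : ∃ k, s ^ 2 ^ k = 1) (n : s ≠ 1) : orderOf (s * s) < orderOf s := by
  obtain ⟨k, hk⟩ := p
  obtain ⟨j, -, e⟩ := (Nat.dvd_prime_pow Nat.prime_two).1 (orderOf_dvd_of_pow_eq_one hk)
  rcases j with _ | j
  · exact absurd (orderOf_eq_one_iff.1 e) n
  refine lt_of_le_of_lt (orderOf_le_of_pow_eq_one (n := 2 ^ j) (by positivity) ?_) (e ▸ Nat.pow_lt_pow_right one_lt_two j.lt_succ_self)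
  rw [← sq, ← pow_mul, ← pow_succ', ← e, pow_orderOf_eq_one]

theorem ord_odd (p : ∃ k, s ^ 2 ^ k = 1) (j : ℤ) : orderOf s ≤ orderOf (s ^ (2 * j + 1)) := by
  obtain ⟨k, hk⟩ := p
  refine orderOf_le_of_pow_eq_one (orderOf_pos _) ?_
  have e : (s ^ orderOf (s ^ (2 * j + 1))) ^ (2 * j + 1).natAbs = 1 := by
    rw [pow_natAbs_eq_one, ← zpow_natCast, ← zpow_mul, mul_comm, zpow_mul, zpow_natCast, pow_orderOf_eq_one]
  exact (pow_eq_one_iff_of_coprime ((Nat.coprime_two_right.2 (Int.natAbs_odd.2 ⟨j, rfl⟩)).pow_right k)).1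
    ⟨e, by rw [← pow_mul, mul_comm, pow_mul, hk, one_pow]⟩

theorem sq_cent (h : HB U A P) (hx : x ∈ U ⊔ 𝐂(P)) : x * x ∈ 𝐂(P) := by
  obtain ⟨v, hv, c, hc, rfl⟩ := h.exists_mul' hx
  rw [mul_assoc, ← mul_assoc c, ← hc v (h.le hv), ← mul_assoc, ← mul_assoc, sq_of_ea h.ea hv, one_mul]
  exact mul_mem hc hc

theorem strc (y : GY d Y) (h : Ps Y z u a P P') : ∃ τ ∈ Y, u * τ * u⁻¹ = τ⁻¹ ∧ z ∈ zpowers τ ∧
    (∀ s ∈ zpowers τ, ∃ a P P', Ps Y z (u * s) a P P') ∧ ∀ v a P P', Ps Y z v a P P' → u * v ∈ zpowers τ := by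
  obtain ⟨u', ⟨a', Q, Q', h'⟩, mx⟩ := Set.exists_max_image {v | ∃ a P P', Ps Y z v a P P'} (fun v => orderOf (u * v))
    (Set.toFinite _) ⟨a, _, _, _, h.symm⟩
  have tY := mul_mem (mu h) (mu h')
  have n : u ≠ u' := fun e => h.nc (by
    have := mx a ⟨_, _, _, h.symm⟩
    rw [← e, h.uu, orderOf_one] at this
    rw [eq_inv_of_mul_eq_one_left (orderOf_eq_one_iff.1 (le_antisymm this (orderOf_pos _))), ui h.symm])
  have z0 : z ∈ zpowers (u * u') := y.sz h h' n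
  refine ⟨_, tY, (inv_mul h h').1, z0, fun s hs => cjv h h' hs, ?_⟩
  have key : ∀ m, ∀ v a P P', Ps Y z v a P P' → orderOf (u * v) = m → u * v ∈ zpowers (u * u') := fun m => by
    induction m using Nat.strong_induction_on with | _ m ih => ?_
    intro v b R R' k e
    by_cases c : u * v = 1
    · rw [c]; exact one_mem _
    have vY := mul_mem (mu h) (mu k)
    have k' := cjz h (le_normalizer (mu k)) k.uz
    have e1 : u * (v * u * v⁻¹) = u * v * (u * v) := by rw [ui k]; simp only [mul_assoc]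
    have lt := ord_lt (pel y.pg vY) c
    obtain ⟨i, hi⟩ := ih _ (e ▸ lt) _ _ _ _ k' (by rw [e1])
    replace hi : (u * u') ^ i = u * v * (u * v) := hi.trans e1
    obtain ⟨j, rfl | rfl⟩ := Int.even_or_odd' i
    swap
    · exact absurd ((mx v ⟨_, _, _, k⟩).trans (hi ▸ ord_odd (pel y.pg tY) j)) lt.not_ge
    have m : (u * u') ^ j ∈ zpowers (u * u') := zpow_mem (mem_zpowers _) j
    obtain ⟨b', S, S', k₁⟩ := cjv h h' m
    have cm : v * (u * (u * u') ^ j) = u * (u * u') ^ j * v := by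
      by_contra c'
      have t1 := mul_mem (mu k) (mu k₁)
      have t2 : v * (u * (u * u') ^ j) * z = z * (v * (u * (u * u') ^ j)) := by rw [mul_assoc, k₁.uz, ← mul_assoc, k.uz, mul_assoc]
      refine h.zc (zpowers_le.2 (sq_cent h.l.hb (h.l.cen ⟨t1, mem_c2.2 ⟨?_, t2.symm⟩⟩)) (szi y k t1 t2 (inv_mul k k₁).1 (sq_ne k k₁.uu c')))
      have e2 : u * (u * u') ^ j * u * (u * (u * u') ^ j) = v * u * v := by
        rw [mul_assoc _ u, ← mul_assoc u u, h.uu, one_mul, mul_assoc, ← zpow_add, ← two_mul, hi, ← mul_assoc, ← mul_assoc,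
          ← mul_assoc, h.uu, one_mul]
      generalize u * (u * u') ^ j = w at e2 k₁
      rw [← mul_left_inj w, mul_assoc, mul_assoc, k₁.uu, mul_one, mul_assoc, mul_assoc, ← mul_assoc w, e2, ← mul_assoc, ← mul_assoc,
        k.uu, one_mul]
    rcases sz0 y k₁ k cm.symm with e' | e'
    · rw [e', ← mul_assoc, h.uu, one_mul]; exact m
    · rw [e', ← mul_assoc, ← mul_assoc, h.uu, one_mul]; exact mul_mem m z0
  exact fun v a P P' k => key _ v a P P' k rfl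

variable (y : GY d Y) (h : PY Y U A P P')
include y h

theorem jb (b : Nat.card U ≠ 4) : maxAb 2 (Y ⊓ 𝐍(U)) = maxAb 2 Y :=
  CF.PLocal.maxAb_eq_of_thompson_le (le_inf (thompson_le _ _) (y.rcb h b)) inf_le_left

theorem le_J (b : Nat.card U ≠ 4) : U ⊔ A ≤ 𝐉[2](Y) :=
  let ⟨_, hE, l⟩ := (h.jn y.pg).2
  let ⟨_, hE', l'⟩ := (h.symm.jn y.pg).2
  sup_le (l.trans (le_thompson (jb y h b ▸ hE))) (l'.trans (le_thompson (jb y h.symm (h.card_eq ▸ b) ▸ hE')))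

theorem big0 (b : Nat.card U ≠ 4) (h₁ : PY Y U₁ A₁ P₁ P₁') (b₁ : Nat.card U₁ ≠ 4) :
    (U₁ = U ∧ A₁ = A) ∨ (U₁ = A ∧ A₁ = U) ∨ P₁ ⊔ P₁' ≤ 𝐂(P ⊔ P') :=
  y.lp h h₁ ((le_J y h₁ b₁).trans (y.rcb h b)) ((le_J y h b).trans (y.rcb h₁ b₁))

theorem fs (b : Nat.card U ≠ 4) (h₁ : Ps Y z u a P₁ P₁') : (cj[u] U = U ∧ cj[u] A = A) ∨ (cj[u] U = A ∧ cj[u] A = U) :=
  (big0 y h b (h.cj' (le_normalizer (mu h₁))) (by rwa [card_cj])).imp_right fun c => c.resolve_right fun c =>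
    nomove y h.l h₁ (le_sup_left.trans (c.trans (centralizer_anti le_sup_left)))

theorem nswap (b : Nat.card U ≠ 4) (h₁ : Ps Y z u a P₁ P₁') : cj[u] U = U ∧ cj[u] A = A := (fs y h b h₁).resolve_right fun s => by
  have zN : z ∈ Y ⊓ 𝐍(U) := ⟨mz h₁, cj_eq_self_iff.1 (by
    rw [← sq_ua h₁]; simp only [cj_mul]
    rcases fs y h b h₁.symm with c | c
    · rw [c.1, s.1, c.2, s.2]
    · rw [c.1, s.2, c.1, s.2])⟩
  have bar : ∀ {x}, x ∈ U → u * x * u⁻¹ ∈ A := fun hx => s.1 ▸ conj_mem_cj u hx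
  have bar2 : ∀ x, u * (u * x * u⁻¹) * u⁻¹ = x := fun x => by
    rw [show u * (u * x * u⁻¹) * u⁻¹ = u * u * x * (u * u)⁻¹ by group, h₁.uu, one_mul, inv_one, mul_one]
  have sqU := fun {x} (hx : x ∈ U) => sq_of_ea h.l.hb.ea hx
  have sqA := fun {x} (hx : x ∈ A) => sq_of_ea h.r.hb.ea hx
  have cm : ∀ {x w}, x ∈ U → w ∈ A → ⁅x, w⁆ ∈ U ⊓ A := fun hx hw => h.comm_eq ▸ commutator_mem_commutator hx hw
  have sq : ∀ {x}, x ∈ U → x * (u * x * u⁻¹) * (x * (u * x * u⁻¹)) = ⁅x, u * x * u⁻¹⁆ := fun hx => by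
    rw [commutatorElement_def, inv_eq_of_mul_eq_one_right (sqU hx), inv_eq_of_mul_eq_one_right (sqA (bar hx)), ← mul_assoc]
  have key : ∀ x ∈ U, x ∉ A → x * z = z * x → ⁅x, u * x * u⁻¹⁆ = z := fun x hx x0 c => by
    have n : ⁅x, u * x * u⁻¹⁆ ≠ 1 := fun e => x0 (h.inf_eq.le ⟨hx, h.l.hb.mem_cent (bar hx) (fun m => x0 (by
      rw [← bar2 x]; exact bar (h.symm.inf_eq.le ⟨bar hx, m⟩).2)) hx (by
        rw [← commutatorElement_inv, e, inv_one]; exact one_mem _)⟩).2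
    have := szi y h₁ (mul_mem (h.l.lU hx) (h.l.lA (bar hx))) (by
      rw [mul_assoc, (show u * x * u⁻¹ * z = z * (u * x * u⁻¹) by
        conv_lhs => rw [← conj_eq_of_mem_centralizer (mem_cz.2 h₁.uz.symm) (mem_zpowers z), conj_mul, c, ← conj_mul,
          conj_eq_of_mem_centralizer (mem_cz.2 h₁.uz.symm) (mem_zpowers z)]), ← mul_assoc, c, mul_assoc]) (by
      rw [← conj_mul, bar2, mul_inv_rev, inv_eq_of_mul_eq_one_right (sqU hx), inv_eq_of_mul_eq_one_right (sqA (bar hx))])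
      (sq hx ▸ n)
    rw [sq hx] at this
    exact ((eq_or_of_mem_zpowers (sqU (cm hx (bar hx)).1) this).resolve_left h₁.ne).symm
  have zc : z ∈ 𝐂(U) := by
    by_cases m : z ∈ A ⊔ (U ⊔ 𝐂(P))
    · refine (h.l.hb.inv m h₁.zz).elim id fun c => ?_
      rw [← s.2, ← cj_centralizer, ← conj_eq_of_mem_centralizer (mem_cz.2 h₁.uz.symm) (mem_zpowers z)]
      exact conj_mem_cj u c
    obtain ⟨v, hv, v0⟩ := (h.fld y.pg zN h₁.zz m).2
    have m' := cm_mem zN.2 hv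
    rw [← key _ m' v0 (by
      nth_rw 1 [← inv_eq_of_mul_eq_one_right (sqU m')]
      rw [commutatorElement_inv, commutatorElement_def, commutatorElement_def, zi h₁, ← mul_assoc, ← mul_assoc, ← mul_assoc,
        h₁.zz, one_mul, mul_assoc _ z, h₁.zz, mul_one])]
    exact h.l.hb.ab (cm m' (bar m')).1
  obtain ⟨F, _, _, ρ, ψ, k⟩ := h.l.hb
  obtain ⟨t, t0, t1⟩ : ∃ t : F, t ≠ 0 ∧ t ≠ 1 := by
    by_contra! c
    have := k.four b
    have : Nat.card F ≤ 2 := by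
      classical
      rw [Nat.card_eq_fintype_card, ← Finset.card_univ]
      exact (Finset.card_le_card (t := {0, 1}) fun x _ => by by_cases e : x = 0 <;> simp [e, c x]).trans Finset.card_le_two
    omega
  obtain ⟨x, hx, ex⟩ := k.nat.ψsurj ![0, 1]
  obtain ⟨v, hv, ev⟩ := k.nat.ψsurj ![0, t]
  have nA : ∀ x ∈ U, ψ x 1 ≠ 0 → ⁅x, u * x * u⁻¹⁆ = z := fun x hx e =>
    key x hx (fun m => e ((k.nat.fix x hx).1 (h.r.hb.ab m))) (zc x hx)
  have k1 := nA x hx (by simp [ex])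
  have k2 := nA v hv (by simp [ev, t0])
  have k3 := nA _ (mul_mem hx hv) (by
    rw [k.nat.ψmul x hx v hv, ex, ev]
    exact fun e => t1 (by simp at e; linear_combination e - k.two))
  have nU := h.l.hb.le'.trans h.l.hb.norm
  have nA' := h.r.hb.le'.trans h.r.hb.norm
  rw [← conj_mul, cm_right h.r.hb.ab (nA' (mul_mem hx hv)) (bar hx) (bar hv),
    cm_left h.r.hb.ab (nA' hx) (nA' hv) (bar hx) (h.l.hb.ab (cm hv (bar hx)).1 x hx),
    cm_left h.r.hb.ab (nA' hx) (nA' hv) (bar hv) (h.l.hb.ab (cm hv (bar hv)).1 x hx), k1, k2, mul_assoc, mul_eq_left] at k3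
  obtain ⟨r, er⟩ : ∃ r, r = ⁅x, u * v * u⁻¹⁆ := ⟨_, rfl⟩
  have hr : r ∈ U ⊓ A := er ▸ cm hx (bar hv)
  have zR : z ∈ U ⊓ A := k1 ▸ cm hx (bar hx)
  have e1 : u * r * u⁻¹ = z * r := by
    rw [er, cm_conj, bar2, ← commutatorElement_inv, eq_inv_of_mul_eq_one_left k3, inv_inv, ← er]
    exact (h.l.hb.ab hr.1 z zR.1).symm
  have e2 := (sq hx).trans k1
  have e3 : u * (x * (u * x * u⁻¹)) * u⁻¹ = (x * (u * x * u⁻¹))⁻¹ := by
    rw [← conj_mul, bar2, mul_inv_rev, inv_eq_of_mul_eq_one_right (sqU hx), inv_eq_of_mul_eq_one_right (sqA (bar hx))]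
  have cx : ∀ {w}, w ∈ U ⊓ A → w * (x * (u * x * u⁻¹)) = x * (u * x * u⁻¹) * w := fun hw =>
    h.cent_R (mul_mem (mem_sup_right (mem_sup_left hx)) (mem_sup_left (bar hx))) _ hw
  have wY := mul_mem (h.l.lU hx) (h.l.lA (bar hx))
  generalize x * (u * x * u⁻¹) = w at e2 e3 cx wY
  refine h₁.zc ?_
  have := sq_cent h₁.l.hb (h₁.l.cen (x := w * r) ⟨Y.mul_mem wY (h.l.lU hr.1), mem_c2.2 ⟨?_, ?_⟩⟩)
  · rwa [mul_assoc, ← mul_assoc r, cx hr, mul_assoc, sqU hr.1, mul_one, e2] at this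
  · rw [← mul_inv_eq_iff_eq_mul, ← conj_mul, e3, e1, ← e2, ← mul_assoc, inv_mul_cancel_left]
  · rw [← mul_assoc, cx zR, mul_assoc, mul_assoc _ r, h.l.hb.ab hr.1 z zR.1]

theorem big1 (b : Nat.card U ≠ 4) (h₁ : Ps Y z u a P₁ P₁') (c : z ∈ 𝐂(U)) : u ∈ 𝐂(P) := by
  have n := cj_eq_self_iff.1 (nswap y h b h₁).1
  have ne : U ≠ zpowers u ⊔ zpowers z := fun e => b (e ▸ h₁.card)
  refine ((y.f2b h.l h₁.l (by_contra fun c' => b ?_)).resolve_left ne).2 (Ps.mu u z)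
  rw [h.card_eq, ← (y.lp1 h h₁.toPY (sup_le (zpowers_le.2 n) (zpowers_le.2 (centralizer_le_normalizer _ c))) (fun x hx => ?_) c').1,
    h₁.card]
  have m := cm_mem n hx
  refine mem_n2 (h₁.mem_iff.2 (.inr (.inr (sz0 y h₁ (cjz h₁ (le_normalizer (h.l.lU hx)) (c x hx)) ?_)))) (c x hx)
  have e : u * (x * u * x⁻¹) = ⁅u, x⁆ := by rw [commutatorElement_def, ui h₁]; simp only [mul_assoc]
  rw [e, ← inv_eq_of_mul_eq_one_right (sq_of_ea h.l.hb.ea m), ← e, mul_inv_rev, ui h₁, conj_inv, ui h₁]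

end S2x

open Lx Sx S2x

namespace GY
variable (y : GY d Y)
include y

theorem dih (h : Ps Y z u a P P') (hx : x ∈ closure {v | ∃ a P P', Ps Y z v a P P'}) (s : x * x = 1) :
    x = 1 ∨ x = z ∨ ∃ a P P', Ps Y z x a P P' := by
  obtain ⟨τ, -, i, hz, k1, k2⟩ := strc y h
  have l : closure {v | ∃ a P P', Ps Y z v a P P'} ≤ zpowers u ⊔ zpowers τ := (closure_le _).2 fun v ⟨_, _, _, k⟩ => by
    rw [← inv_mul_cancel_left u v]
    exact mul_mem (mem_sup_left (inv_mem (mem_zpowers u))) (mem_sup_right (k2 v _ _ _ k))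
  obtain ⟨v, hv, w, hw, rfl⟩ := (mem_sup_of_le_normalizer' (zpowers_le.2 (mem_normalizer_of_conj_mem fun g hg =>
    inv_zp i hg ▸ inv_mem hg))).1 (l hx)
  rcases eq_or_of_mem_zpowers h.uu hv with rfl | rfl
  · rw [one_mul] at s ⊢
    exact or_iff_not_imp_left.2 fun n => .inl (uniq hw hz s h.zz n h.ne)
  · exact .inr (.inr (k1 w hw))

theorem odd (h : Ps Y z u a P P') (hg : g ∈ 𝐍(Y)) (c : g * z = z * g) (o : Odd (orderOf g)) : g * u = u * g := by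
  obtain ⟨τ, hτ, -, -, k1, k2⟩ := strc y h
  obtain ⟨_, _, _, h'⟩ := k1 τ (mem_zpowers τ)
  have m1 := k2 _ _ _ _ (cjz h hg c)
  have m2 := k2 _ _ _ _ (cjz h' hg c)
  have c' := oddc o (pel y.pg hτ) (by
    rw [show g * τ * g⁻¹ = (u * (g * u * g⁻¹))⁻¹ * (u * (g * (u * τ) * g⁻¹)) by group]
    exact mul_mem (inv_mem m1) m2)
  have := fixo (x := u) o (pel y.pg (zpowers_le.2 hτ m1)) (by rw [← mul_assoc, h.uu, one_mul]) (comm_zp c'.symm m1).symm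
  rwa [mul_eq_one_iff_inv_eq, ui h, eq_mul_inv_iff_mul_eq, eq_comm] at this

theorem big (h : PY Y U A P P') (b : Nat.card U ≠ 4) (h₁ : PY Y U₁ A₁ P₁ P₁') :
    (U₁ = U ∧ A₁ = A) ∨ (U₁ = A ∧ A₁ = U) ∨ P₁ ⊔ P₁' ≤ 𝐂(P ⊔ P') := by
  by_cases b₁ : Nat.card U₁ = 4
  swap
  · exact big0 y h b h₁ b₁
  obtain ⟨z, u, a, k, rfl, rfl, -⟩ := h₁.ps b₁
  have key : ∀ {U A P P'}, PY Y U A P P' → Nat.card U ≠ 4 → z ∈ 𝐂(U) → P₁ ⊔ P₁' ≤ 𝐂(P ⊔ P') := fun h b c => by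
    have c1 := big1 y h b k c
    have c2 := big1 y h b k.symm c
    have c3 := k.cm ▸ cm_mem (le_normalizer c1) c2
    exact y.kl h h₁ (le_trans (sup_le (sup_le (zpowers_le.2 c1) (zpowers_le.2 c3)) (sup_le (zpowers_le.2 c2) (zpowers_le.2 c3)))
      (centralizer_anti (sup_le h.l.hb.le h.l.hb.le')))
  have n : u ∈ Y ⊓ 𝐍(U) := ⟨mu k, cj_eq_self_iff.1 (nswap y h b k).1⟩
  have n' : a ∈ Y ⊓ 𝐍(U) := ⟨mu k.symm, cj_eq_self_iff.1 (nswap y h b k.symm).1⟩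
  have m : a ∈ 𝐍(A ⊔ (U ⊔ 𝐂(P))) := zpowers_le.1 (le_normalizer_sup (zpowers_le.2 (h.l.nor n').2)
    (le_normalizer_sup (zpowers_le.2 n'.2) (le_normalizer_centralizer (zpowers_le.2 (h.l.nor n').1))))
  have z0 : z ∈ A ⊔ (U ⊔ 𝐂(P)) := by
    rw [← k.cm, show ⁅u, a⁆ = u * (a * u * a⁻¹) by rw [commutatorElement_def, ui k]; simp only [mul_assoc]]
    by_cases c : u ∈ A ⊔ (U ⊔ 𝐂(P))
    · exact mul_mem c (conj_mem_of_mem_normalizer m c)
    · exact h.fa y.pg n (mul_mem (mul_mem n' n) (inv_mem n')) k.uu (by rw [conj_mul, k.uu, mul_one, mul_inv_cancel]) c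
        fun e => c ((mem_normalizer_iff.1 m u).2 e)
  exact .inr (.inr ((h.l.hb.inv z0 k.zz).elim (key h b) fun c => sup_comm P P' ▸ key h.symm (h.card_eq ▸ b) c))

theorem rc (h : PY Y U A P P') :
    U ⊓ A ≤ 𝐂(𝐉[2](Y)) ∧ (∃ E ∈ maxAb 2 Y, U ≤ E) ∧ 𝐁[2](Y ⊓ 𝐍(U)) ≤ 𝐁[2](Y) := by
  have : U ⊓ A ≤ 𝐂(𝐉[2](Y)) ∧ ∃ E ∈ maxAb 2 Y, U ≤ E := by
    by_cases b : Nat.card U = 4
    · obtain ⟨z, u, a, k, rfl, rfl, e⟩ := h.ps b
      exact ⟨e.le.trans (zpowers_le.2 (y.rcs k).1), (y.rcs k).2⟩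
    · refine ⟨le_centralizer_comm.1 (le_trans ?_ ((h.jn y.pg).1.trans h.cent_R)), jb y h b ▸ (h.jn y.pg).2⟩
      exact (CF.PLocal.thompson_eq_of_le (le_inf (thompson_le _ _) (y.rcb h b)) inf_le_left).ge
  obtain ⟨c, E, hE, l⟩ := this
  have l' : E ≤ Y ⊓ 𝐍(U) := le_inf hE.1 ((isElemAb_le_centralizer hE.2.1).trans (centralizer_le_normalizer_of_le l))
  exact ⟨c, ⟨E, hE, l⟩, inf_le_inf inf_le_left (centralizer_anti (le_omegaJ (isElemAb_omegaOneCenter 2 _) ((omegaJ_le hE).trans l')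
    ((omegaOneCenter_le_centralizer 2 _).trans (centralizer_anti (CF.PLocal.thompson_le_thompson_of_le hE l' inf_le_left)))))⟩

end GY

end CF.Bm
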